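import Groth.Agent.FlatMor.K71.ChartGeo
import Groth.Agent.Curves.K330.FormSec

/-!
# The forms of degree `a` on the standard charts
-/

set_option autoImplicit false
universe u
open CategoryTheory CategoryTheory.Limits AlgebraicGeometry TopologicalSpace

namespace K71.FormFam

open LefPen K71.ChartGeo MvPolynomial
open Groth.Agent.Lefpen.H705.HypIdeal Groth.Agent.Lefpen.H705.SecIdeal Groth.Agent.Lefpen.H708.Geo Groth.Agent.Sga5

variable {N : ℕ} {k : Type u} [Field k]

/-- The monomials of degree `a`. -/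
abbrev Mon (N a : ℕ) : Type := {m : Fin (N + 1) →₀ ℕ // m ∈ (Finset.univ : Finset (Fin (N + 1))).finsuppAntidiag a}

theorem degree_eq {a : ℕ} (m : Mon N a) : (m : Fin (N + 1) →₀ ℕ).degree = a := by
  have h := m.2
  rw [Finset.mem_finsuppAntidiag] at h
  rw [Finsupp.degree_eq_sum]
  exact h.1

/-- A monomial as a form. -/
noncomputable def monF (k : Type u) [Field k] {a : ℕ} (m : Mon N a) : Form N k a :=
  ⟨monomial m.1 1, (mem_homogeneousSubmodule _ _).2 (isHomogeneous_monomial _ (degree_eq m))⟩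

/-- The form with given coefficients. -/
noncomputable def form {a : ℕ} (c : Mon N a → k) : Form N k a := ∑ m, c m • monF k m

theorem coe_form {a : ℕ} (c : Mon N a → k) : (form c : MvPolynomial (Fin (N + 1)) k) =
    ∑ m, MvPolynomial.C (c m) * monomial m.1 1 := by
  rw [form, AddSubmonoidClass.coe_finsetSum]
  refine Finset.sum_congr rfl fun m _ => ?_
  exact MvPolynomial.smul_eq_C_mul _ _

variable {X : Scheme.{u}} (r : X ⟶ CohB1.ProjSpace N k) (j : Fin (N + 1))

theorem coordU_C' (U : X.Opens) (hU : U ≤ r ⁻¹ᵁ chart N k j) (c : k) :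
    coordU r j U hU (MvPolynomial.C c) = sc (r ≫ CohB1.ProjSpace.toSpec N k) U c :=
  RingHom.congr_fun (coordU_C r j U hU) c

theorem eqn_form {a : ℕ} (c : Mon N a → k) : eqn r j (r ⁻¹ᵁ chart N k j) le_rfl (form c) =
    ∑ m, sc (r ≫ CohB1.ProjSpace.toSpec N k) (r ⁻¹ᵁ chart N k j) (c m) *
      eqn r j (r ⁻¹ᵁ chart N k j) le_rfl (monF k m) := by
  rw [eqn_eq, coe_form, map_sum, map_sum]
  refine Finset.sum_congr rfl fun m _ => ?_
  rw [map_mul, map_mul, eqn_eq, ← coordU_C' r j _ le_rfl]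
  congr 2
  simp

theorem adjoin_eq_top [IsClosedImmersion r] :
    letI := (sc (r ≫ CohB1.ProjSpace.toSpec N k) (r ⁻¹ᵁ chart N k j)).toAlgebra
    Algebra.adjoin k (Set.range fun i : Fin N => coordU r j (r ⁻¹ᵁ chart N k j) le_rfl (MvPolynomial.X i)) = ⊤ := by
  let _ := (sc (r ≫ CohB1.ProjSpace.toSpec N k) (r ⁻¹ᵁ chart N k j)).toAlgebra
  rw [eq_top_iff]
  rintro x -
  obtain ⟨P, rfl⟩ := coordU_surjective r j x
  induction P using MvPolynomial.induction_on with
  | C c =>
    rw [coordU_C']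
    exact Subalgebra.algebraMap_mem _ c
  | add P Q hP hQ => rw [map_add]; exact add_mem hP hQ
  | mul_X P i hP =>
    rw [map_mul]
    exact mul_mem hP (Algebra.subset_adjoin ⟨i, rfl⟩)

/-- The monomial `X_i ^ b X_j ^ (a - b)` (with `i` the coordinate of the chart). -/
noncomputable def pw (a : ℕ) (i : Fin N) (b : Fin (a + 1)) : Mon N a :=
  ⟨Finsupp.single (j.succAbove i) (b : ℕ) + Finsupp.single j (a - (b : ℕ)), by
    rw [Finset.mem_finsuppAntidiag]
    refine ⟨?_, Finset.subset_univ _⟩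
    rw [← Finsupp.degree_eq_sum, map_add, Finsupp.degree_single, Finsupp.degree_single]
    have := b.2
    omega⟩

theorem pw_injective (a : ℕ) (i : Fin N) : Function.Injective (pw j a i) := by
  intro b b' h
  have h1 := congrArg (fun m : Mon N a => (m : Fin (N + 1) →₀ ℕ) (j.succAbove i)) h
  simp only [pw, Finsupp.add_apply, Finsupp.single_eq_same,
    Finsupp.single_eq_of_ne (Fin.succAbove_ne j i), add_zero] at h1
  exact Fin.ext h1

theorem eqn_pw (a : ℕ) (i : Fin N) (b : Fin (a + 1)) :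
    eqn r j (r ⁻¹ᵁ chart N k j) le_rfl (monF k (pw j a i b)) =
      coordU r j (r ⁻¹ᵁ chart N k j) le_rfl (MvPolynomial.X i) ^ (b : ℕ) := by
  rw [eqn_eq, ← map_pow]
  congr 1
  have h1 : (monF k (pw j a i b) : MvPolynomial (Fin (N + 1)) k) =
      MvPolynomial.X (j.succAbove i) ^ (b : ℕ) * MvPolynomial.X j ^ (a - (b : ℕ)) := by
    rw [X_pow_eq_monomial, X_pow_eq_monomial, monomial_mul, mul_one]
    rfl
  rw [h1, map_mul, map_pow, map_pow, ProjChart.dehom_X, ProjChart.dehom_X_self, one_pow, mul_one]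

end K71.FormFam
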