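import Groth.Agent.FlatMor.K71.LocCons
import Groth.Agent.FlatMor.K71.FormFam
import Groth.Agent.Lefpen.H21.PicTwist
import Groth.Agent.Pi1C.ZeroScheme
import Groth.Agent.Divis.IdealComap
import Groth.Agent.Vanish.K27.JetBase
import Mathlib.Algebra.MvPolynomial.Funext

/-!
# Hypersurface sections avoiding the associated points of the fibres
-/

set_option autoImplicit false
universe u
open CategoryTheory CategoryTheory.Limits AlgebraicGeometry TopologicalSpace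

namespace K71.Asm

open LefPen K71.ChartGeo K71.FormFam K71.FibInj Groth.Agent.Fdesc.LocGen
open Groth.Agent.Lefpen.H705.HypIdeal Groth.Agent.Lefpen.H705.SecIdeal

theorem exists_dim_bound (k C : Type u) [Field k] [CommRing C] (φ : k →+* C) (h : φ.FiniteType) :
    ∃ n : ℕ, ringKrullDim C ≤ n := by
  let _ := φ.toAlgebra
  have h1 : Algebra.FiniteType k C := h
  obtain ⟨n, f, hf⟩ := Algebra.FiniteType.iff_quotient_mvPolynomial''.1 h1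
  refine ⟨n, (ringKrullDim_le_of_surjective f.toRingHom hf).trans ?_⟩
  rw [Groth.Agent.CalgC.DimFT.ringKrullDim_mvPolynomial_fin]

theorem ker_snd {X Y : Scheme.{u}} (Z : X.IdealSheafData) (f : Y ⟶ X) :
    (pullback.snd Z.subschemeι f).ker = Z.comap f := by
  rw [Scheme.IdealSheafData.comap, ← pullbackSymmetry_hom_comp_fst, Scheme.Hom.ker_comp_of_isIso]

/-- A finite affine cover of a quasi-compact scheme. -/
theorem exists_cover (S : Scheme.{u}) [CompactSpace S] :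
    ∃ (τ : Type u) (_ : Finite τ) (T : τ → S.Opens), (∀ i, IsAffineOpen (T i)) ∧ ∀ s : S, ∃ i, s ∈ T i := by
  obtain ⟨s, hs, h⟩ := (isCompact_iff_finite_and_eq_biUnion_affineOpens (U := (⊤ : S.Opens))).1 isCompact_univ
  refine ⟨s, hs, fun i => i.1.1, fun i => i.1.2, fun x => ?_⟩
  have hx : x ∈ (⊤ : S.Opens) := trivial
  rw [h] at hx
  simp only [Opens.mem_iSup] at hx
  obtain ⟨i, hi, hx⟩ := hx
  exact ⟨⟨i, hi⟩, hx⟩

section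

variable {k : Type u} [Field k] [IsAlgClosed k] {X S Y : Scheme.{u}} (N : ℕ) (ι : X ⟶ CohB1.ProjSpace N k)
    [IsClosedImmersion ι] {q : S ⟶ Spec (CommRingCat.of k)} {f : Y ⟶ X} {g : Y ⟶ S}
    (H : IsPullback f g (ι ≫ CohB1.ProjSpace.toSpec N k) q)
    [LocallyOfFiniteType (ι ≫ CohB1.ProjSpace.toSpec N k)] [LocallyOfFiniteType q] [CompactSpace S]
    (ℰ : Y.Modules) (hℰ : Coh.IsCoh ℰ) (hflat : FlatMod.IsFlatOver g ℰ)
    (hnz : ∀ z, z ∈ MoreMor.relAss g ℰ → ¬ IsClosed ({z} : Set Y))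

include H hℰ hflat hnz in
theorem exists_forms : ∃ a₀ : ℕ, ∀ a : ℕ, a₀ ≤ a → ∃ G : Form N k a,
    ∀ y : Y, ∃ (j : Fin (N + 1)) (T : S.Opens) (_ : IsAffineOpen T) (_ : y ∈ f ⁻¹ᵁ (ι ⁻¹ᵁ chart N k j) ⊓ g ⁻¹ᵁ T),
      ∀ Q : Ideal Γ(Y, f ⁻¹ᵁ (ι ⁻¹ᵁ chart N k j) ⊓ g ⁻¹ᵁ T), Q.IsPrime →
        letI : Algebra Γ(S, T) Γ(Y, f ⁻¹ᵁ (ι ⁻¹ᵁ chart N k j) ⊓ g ⁻¹ᵁ T) :=
          (g.appLE T (f ⁻¹ᵁ (ι ⁻¹ᵁ chart N k j) ⊓ g ⁻¹ᵁ T) inf_le_right).hom.toAlgebra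
        FI Γ(S, T) Γ(ℰ, f ⁻¹ᵁ (ι ⁻¹ᵁ chart N k j) ⊓ g ⁻¹ᵁ T)
          ((f.appLE (ι ⁻¹ᵁ chart N k j) (f ⁻¹ᵁ (ι ⁻¹ᵁ chart N k j) ⊓ g ⁻¹ᵁ T) inf_le_left).hom
            (eqn ι j (ι ⁻¹ᵁ chart N k j) le_rfl G)) Q := by
  classical
  obtain ⟨τ, hτ, T, hT, hTc⟩ := exists_cover S
  have hW : ∀ j, IsAffineOpen (ι ⁻¹ᵁ chart N k j) := fun j => (isAffineOpen_chart j).preimage ι
  have hqY := locallyOfFiniteType_comp H
  choose b hb using fun i : Fin (N + 1) × τ => exists_dim_bound k _ (sc (g ≫ q) (f ⁻¹ᵁ (ι ⁻¹ᵁ chart N k i.1) ⊓ g ⁻¹ᵁ T i.2))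
    (finiteType_sc (g ≫ q) (ChartGeo.isAffineOpen_chart H (hW i.1) (hT i.2)))
  have := Fintype.ofFinite τ
  refine ⟨Finset.univ.sup b, fun a ha => ?_⟩
  choose P hP hP' using fun i : Fin (N + 1) × τ => exists_poly H ℰ hℰ hflat hnz (hW i.1) (hT i.2)
    (fun l : Fin N => Groth.Agent.Lefpen.H708.Geo.coordU ι i.1 (ι ⁻¹ᵁ chart N k i.1) le_rfl (MvPolynomial.X l))
    (adjoin_eq_top ι i.1) a ((hb i).trans (by exact_mod_cast (Finset.le_sup (Finset.mem_univ i)).trans ha))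
    (fun m : Mon N a => eqn ι i.1 (ι ⁻¹ᵁ chart N k i.1) le_rfl (monF k m)) (pw i.1 a) (pw_injective i.1 a)
    (eqn_pw ι i.1 a)
  have hprod : ∏ i, P i ≠ 0 := Finset.prod_ne_zero_iff.2 fun i _ => hP i
  obtain ⟨c, hc⟩ : ∃ c, MvPolynomial.eval c (∏ i, P i) ≠ 0 := by
    by_contra hcon
    push Not at hcon
    exact hprod (MvPolynomial.funext fun c => by rw [hcon c, map_zero])
  have hcP : ∀ i, MvPolynomial.eval c (P i) ≠ 0 := by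
    intro i h0
    apply hc
    rw [map_prod]
    exact Finset.prod_eq_zero (Finset.mem_univ i) h0
  refine ⟨form c, fun y => ?_⟩
  obtain ⟨j, hj⟩ := Groth.Agent.PerfB.ProjSpaceCover.exists_mem_basicOpen_X N k (ι (f y))
  obtain ⟨i, hi⟩ := hTc (g y)
  refine ⟨j, T i, hT i, ⟨hj, hi⟩, fun Q hQ => ?_⟩
  have h1 := hP' (j, i) c (hcP (j, i)) Q hQ
  rw [← eqn_form ι j c] at h1
  exact h1

end

section

variable {k : Type u} [Field k] {X S Y : Scheme.{u}} (N : ℕ) (ι : X ⟶ CohB1.ProjSpace N k)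
    [IsClosedImmersion ι] {f : Y ⟶ X} {g : Y ⟶ S} (ℰ : Y.Modules) (hℰ : Coh.IsCoh ℰ) {a : ℕ} (G : Form N k a)

/-- The section of `O_X(a)`. -/
noncomputable def sg : Coh.structureModule X ⟶ (Scheme.Modules.pullback ι).obj (Twist.twistProjSpace N k (a : ℤ)) :=
  homOf (K330.FormSec.sec' ι G)

/-- Its zero scheme. -/
noncomputable abbrev Zs : X.IdealSheafData :=
  PicF2.zeroScheme ((Scheme.Modules.pullback ι).obj (Twist.twistProjSpace N k (a : ℤ))) (sg N ι G)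

omit [IsClosedImmersion ι] in
theorem exists_sec (j : Fin (N + 1)) :
    ∃ e : Γ((Scheme.Modules.pullback ι).obj (Twist.twistProjSpace N k (a : ℤ)), ι ⁻¹ᵁ chart N k j), IsGen e ∧
      sec (sg N ι G) (ι ⁻¹ᵁ chart N k j) = eqn ι j (ι ⁻¹ᵁ chart N k j) le_rfl G • e := by
  obtain ⟨e, he, hes⟩ := K330.FormSec.exists_gen_pull (N := N) (d := a) (k := k) ι j
  refine ⟨e, he, ?_⟩
  rw [sg, sec_homOf]
  exact hes G

theorem ideal_Zs (j : Fin (N + 1)) :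
    (Zs N ι G).ideal ⟨ι ⁻¹ᵁ chart N k j, (isAffineOpen_chart j).preimage ι⟩ =
      Ideal.span {eqn ι j (ι ⁻¹ᵁ chart N k j) le_rfl G} := by
  obtain ⟨e, he, hes⟩ := exists_sec N ι G j
  exact Groth.Agent.Pi1C.ZeroScheme.ideal_eq_span (sg N ι G)
    (Groth.Agent.Lefpen.H21.PicTwist.isInvertible_pullback_twist ι a)
    ⟨ι ⁻¹ᵁ chart N k j, (isAffineOpen_chart j).preimage ι⟩ he hes

theorem mem_primeIdealOf (j : Fin (N + 1)) (x : X) (hx : x ∈ ι ⁻¹ᵁ chart N k j) (h : x ∈ (Zs N ι G).support) :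
    eqn ι j (ι ⁻¹ᵁ chart N k j) le_rfl G ∈
      (((isAffineOpen_chart (r := N) (k := k) j).preimage ι).primeIdealOf ⟨x, hx⟩).asIdeal := by
  rw [Scheme.IdealSheafData.mem_support_iff_of_mem
    (U := ⟨ι ⁻¹ᵁ chart N k j, (isAffineOpen_chart j).preimage ι⟩) hx, ideal_Zs, Scheme.zeroLocus_span,
    Scheme.mem_zeroLocus_iff] at h
  by_contra hcon
  exact h _ rfl ((K27.Crit.mem_basicOpen_iff
    ⟨ι ⁻¹ᵁ chart N k j, (isAffineOpen_chart (r := N) (k := k) j).preimage ι⟩ hx _).2 hcon)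

/-- The property of `G` on the charts. -/
def Good (f : Y ⟶ X) (g : Y ⟶ S) : Prop :=
    ∀ y : Y, ∃ (j : Fin (N + 1)) (T : S.Opens) (_ : IsAffineOpen T) (_ : y ∈ f ⁻¹ᵁ (ι ⁻¹ᵁ chart N k j) ⊓ g ⁻¹ᵁ T),
      ∀ Q : Ideal Γ(Y, f ⁻¹ᵁ (ι ⁻¹ᵁ chart N k j) ⊓ g ⁻¹ᵁ T), Q.IsPrime →
        letI : Algebra Γ(S, T) Γ(Y, f ⁻¹ᵁ (ι ⁻¹ᵁ chart N k j) ⊓ g ⁻¹ᵁ T) :=
          (g.appLE T (f ⁻¹ᵁ (ι ⁻¹ᵁ chart N k j) ⊓ g ⁻¹ᵁ T) inf_le_right).hom.toAlgebra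
        FI Γ(S, T) Γ(ℰ, f ⁻¹ᵁ (ι ⁻¹ᵁ chart N k j) ⊓ g ⁻¹ᵁ T)
          ((f.appLE (ι ⁻¹ᵁ chart N k j) (f ⁻¹ᵁ (ι ⁻¹ᵁ chart N k j) ⊓ g ⁻¹ᵁ T) inf_le_left).hom
            (eqn ι j (ι ⁻¹ᵁ chart N k j) le_rfl G)) Q

variable {q : S ⟶ Spec (CommRingCat.of k)} (H : IsPullback f g (ι ≫ CohB1.ProjSpace.toSpec N k) q)

include hℰ H in
theorem avoid (hG : Good N ι ℰ G f g) (z : Y) (hz : z ∈ MoreMor.relAss g ℰ) : f z ∉ (Zs N ι G).support := by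
  intro hmem
  obtain ⟨j, T, hT, hzV, hFI⟩ := hG z
  have hW := (isAffineOpen_chart (r := N) (k := k) j).preimage ι
  have hV := ChartGeo.isAffineOpen_chart H hW hT
  refine LocCons.notMem_primeIdealOf g ℰ hℰ hT hV inf_le_right _ hFI z hzV hz ?_
  have h1 := mem_primeIdealOf N ι G j (f z) hzV.1 hmem
  have h2 := K119.GenSch.comap_eq f hV hW inf_le_left z hzV
  rw [← h2] at h1
  exact h1

include hℰ H in
theorem flat (hG : Good N ι ℰ G f g) [IsLocallyNoetherian S] [LocallyOfFiniteType g]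
    (hflat : FlatMod.IsFlatOver g ℰ) {P : Scheme.{u}} (j : P ⟶ Y) [IsClosedImmersion j]
    (hj : j.ker = (Zs N ι G).comap f) : FlatMod.IsFlatOver (j ≫ g) ((Scheme.Modules.pullback j).obj ℰ) := by
  intro z
  obtain ⟨l, T, hT, hzV, hFI⟩ := hG (j z)
  have hW := (isAffineOpen_chart (r := N) (k := k) l).preimage ι
  have hV := ChartGeo.isAffineOpen_chart H hW hT
  refine LocCons.isFlatOverAt g ℰ hℰ hflat hT hV inf_le_right _ hFI j ?_ z hzV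
  rw [hj, Groth.Agent.Divis.IdealComap.ideal_comap _ f ⟨ι ⁻¹ᵁ chart N k l, hW⟩ ⟨_, hV⟩ inf_le_left,
    ideal_Zs, Ideal.map_span, Set.image_singleton]

end

end K71.Asm
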