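import Groth.Agent.FlatMor.K71.Rank
import Groth.Agent.Cons9.K119.GenDev

/-!
# The algebraic statement on a chart

`A`, `R`, `C` of finite type over the algebraically closed field `k`, `C` generated by the images of `A` and `R`, `R`
generated by `y i`; `E` finite over `C`, flat over `A`, no closed associated points in the fibres over closed points.
-/

set_option autoImplicit false
universe u

namespace K71.ChartAlg

open Module K71.GenCount K71.FibInj K119.GenTB K119.GenDev MvPolynomial

variable {k : Type u} [Field k] [IsAlgClosed k] {A R C : Type u} [CommRing A] [CommRing R] [CommRing C]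
  [Algebra k A] [Algebra k R] [Algebra k C] [Algebra A C] [Algebra R C] [IsScalarTower k A C]
  [IsScalarTower k R C] [Algebra.FiniteType k A] [Algebra.FiniteType k C]

omit [IsAlgClosed k] [Algebra.FiniteType k A] [Algebra.FiniteType k C] [IsScalarTower k A C] [Algebra k A] in
/-- The elements of `R` are constant modulo `q`. -/
theorem exists_sub_mem_of_adjoin {κ : Type*} (y : κ → R) (hy : Algebra.adjoin k (Set.range y) = ⊤) (q : Ideal C)
    (h : ∀ i, ∃ c : k, algebraMap R C (y i) - algebraMap k C c ∈ q) (r : R) :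
    ∃ c : k, algebraMap R C r - algebraMap k C c ∈ q := by
  have hr : r ∈ Algebra.adjoin k (Set.range y) := hy ▸ Algebra.mem_top
  refine Algebra.adjoin_induction (p := fun r _ => ∃ c : k, algebraMap R C r - algebraMap k C c ∈ q)
    ?_ ?_ ?_ ?_ hr
  · rintro _ ⟨i, rfl⟩
    exact h i
  · intro c
    refine ⟨c, ?_⟩
    rw [← IsScalarTower.algebraMap_apply, sub_self]
    exact zero_mem _
  · rintro x x' _ _ ⟨c, hc⟩ ⟨c', hc'⟩
    refine ⟨c + c', ?_⟩
    rw [map_add, map_add, add_sub_add_comm]
    exact add_mem hc hc'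
  · rintro x x' _ _ ⟨c, hc⟩ ⟨c', hc'⟩
    refine ⟨c * c', ?_⟩
    rw [map_mul, map_mul]
    have : algebraMap R C x * algebraMap R C x' - algebraMap k C c * algebraMap k C c' =
      algebraMap R C x * (algebraMap R C x' - algebraMap k C c') +
        algebraMap k C c' * (algebraMap R C x - algebraMap k C c) := by ring
    rw [this]
    exact add_mem (Ideal.mul_mem_left _ _ hc') (Ideal.mul_mem_left _ _ hc)

omit [Algebra.FiniteType k C] in
theorem isMaximal_of_const (hgen : ∀ S' : Subring C, (algebraMap A C).range ≤ S' → (algebraMap R C).range ≤ S' → S' = ⊤)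
    {κ : Type*} (y : κ → R) (hy : Algebra.adjoin k (Set.range y) = ⊤) (q : Ideal C) [hq : q.IsPrime]
    (hqA : (q.comap (algebraMap A C)).IsMaximal)
    (h : ∀ i, ∃ c : k, algebraMap R C (y i) - algebraMap k C c ∈ q) : q.IsMaximal := by
  let p := q.comap (algebraMap A C)
  let S' : Subring C := (algebraMap k (C ⧸ q)).range.comap (Ideal.Quotient.mk q)
  have hS : ∀ x : C, x ∈ S' ↔ ∃ c : k, x - algebraMap k C c ∈ q := by
    intro x
    constructor
    · rintro ⟨c, hc⟩
      refine ⟨c, ?_⟩
      rw [← Ideal.Quotient.eq_zero_iff_mem, map_sub, ← hc]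
      exact sub_self _
    · rintro ⟨c, hc⟩
      refine ⟨c, ?_⟩
      rw [← Ideal.Quotient.eq_zero_iff_mem, map_sub, sub_eq_zero] at hc
      exact hc.symm
  have hA : (algebraMap A C).range ≤ S' := by
    rintro _ ⟨x, rfl⟩
    rw [hS]
    let := Ideal.Quotient.field p
    have h1 : Module.Finite k (A ⧸ p) := finite_of_finite_type_of_isJacobsonRing k _
    have h2 : Function.Bijective (algebraMap k (A ⧸ p)) := IsAlgClosed.algebraMap_bijective_of_isIntegral
    obtain ⟨c, hc⟩ := h2.2 (Ideal.Quotient.mk p x)
    refine ⟨c, ?_⟩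
    have h3 : x - algebraMap k A c ∈ p := by
      rw [← Ideal.Quotient.eq_zero_iff_mem, map_sub, ← hc]
      exact sub_self _
    have h4 : algebraMap A C (x - algebraMap k A c) ∈ q := h3
    rwa [map_sub, ← IsScalarTower.algebraMap_apply] at h4
  have hR : (algebraMap R C).range ≤ S' := by
    rintro _ ⟨x, rfl⟩
    rw [hS]
    exact exists_sub_mem_of_adjoin y hy q h x
  have hS' := hgen S' hA hR
  have hsurj : Function.Surjective (algebraMap k (C ⧸ q)) := by
    intro z
    obtain ⟨x, rfl⟩ := Ideal.Quotient.mk_surjective z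
    have hx : x ∈ S' := by rw [hS']; trivial
    exact hx
  apply Ideal.Quotient.maximal_of_isField
  exact MulEquiv.isField (Field.toIsField k)
    (RingEquiv.ofBijective (algebraMap k (C ⧸ q)) ⟨(algebraMap k (C ⧸ q)).injective, hsurj⟩).symm.toMulEquiv

/-- The main algebraic statement. -/
theorem exists_poly (hgen : ∀ S' : Subring C, (algebraMap A C).range ≤ S' → (algebraMap R C).range ≤ S' → S' = ⊤)
    {κ : Type*} (y : κ → R) (hy : Algebra.adjoin k (Set.range y) = ⊤)
    {E : Type u} [AddCommGroup E] [Module C E] [Module A E] [IsScalarTower A C E]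
    [Module.Finite C E] [Module.Flat A E] (a : ℕ) (hdim : ringKrullDim C ≤ a)
    {ι : Type} [Fintype ι] (m : ι → R) (g : κ → Fin (a + 1) → ι) (hg : ∀ i, Function.Injective (g i))
    (hm : ∀ i b, m (g i b) = y i ^ (b : ℕ))
    (hass : ∀ q : Ideal C, q.IsPrime → RA A E q → (q.comap (algebraMap A C)).IsMaximal → ¬ q.IsMaximal) :
    ∃ f : MvPolynomial ι k, f ≠ 0 ∧ ∀ c, eval c f ≠ 0 → ∀ q : Ideal C, q.IsPrime →
      FI A E (∑ α, c α • algebraMap R C (m α)) q := by
  have hC : IsNoetherianRing C := Algebra.FiniteType.isNoetherianRing k C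
  refine GenCount.exists_poly (A := A) (fun α => algebraMap R C (m α)) a hdim ?_
  intro n hn q hq
  have hq' : q.IsPrime := IsAssociatedPrime.isPrime hq
  have hAC : Algebra.FiniteType A C := Algebra.FiniteType.of_restrictScalars_finiteType k A C
  have hmA : (n.comap (algebraMap A C)).IsMaximal := by
    let := Ideal.Quotient.field n
    have h1 : Module.Finite k (C ⧸ n) := finite_of_finite_type_of_isJacobsonRing k _
    have h2 : Function.Bijective (algebraMap k (C ⧸ n)) := IsAlgClosed.algebraMap_bijective_of_isIntegral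
    have h3 : Function.Surjective ((Ideal.Quotient.mk n).comp (algebraMap A C)) := by
      intro z
      obtain ⟨c, rfl⟩ := h2.2 z
      refine ⟨algebraMap k A c, ?_⟩
      rw [RingHom.comp_apply, ← IsScalarTower.algebraMap_apply]
      rfl
    have h4 := RingHom.ker_isMaximal_of_surjective _ h3
    have h5 : RingHom.ker ((Ideal.Quotient.mk n).comp (algebraMap A C)) = n.comap (algebraMap A C) := by
      rw [← RingHom.comap_ker, Ideal.mk_ker]
    rwa [h5] at h4
  obtain ⟨x, hx⟩ := ((isAssociatedPrime_iff).1 hq).2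
  obtain ⟨x, rfl⟩ := Submodule.Quotient.mk_surjective _ x
  have hx' : ∀ b : C, b • x ∈ sub A E n ↔ b ∈ q := by
    intro b
    rw [hx, ← Submodule.Quotient.mk_eq_zero, Submodule.Quotient.mk_smul,
      Submodule.mem_colon_singleton, Submodule.mem_bot]
  have hle : n.comap (algebraMap A C) ≤ q.comap (algebraMap A C) := by
    intro r hr
    rw [Ideal.mem_comap, ← hx']
    exact Submodule.smul_mem_smul (Ideal.mem_map_of_mem _ hr) Submodule.mem_top
  have heq : n.comap (algebraMap A C) = q.comap (algebraMap A C) :=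
    hmA.eq_of_le (Ideal.IsPrime.comap _).ne_top hle
  have hsub : sub A E n = sub A E q := by
    rw [sub, sub, heq]
  have hRA : RA A E q := by
    have h1 : AE (sub A E q) q := ⟨x, by rw [← hsub]; exact hx'⟩
    exact h1.locAss
  have hnm := hass q hq' hRA (heq ▸ hmA)
  obtain ⟨i, hi⟩ : ∃ i, ∀ c : k, algebraMap R C (y i) - algebraMap k C c ∉ q := by
    by_contra hcon
    push Not at hcon
    exact hnm (isMaximal_of_const hgen y hy q (heq ▸ hmA) hcon)
  exact Rank.finrank_le q (algebraMap R C (y i)) hi a (fun α => algebraMap R C (m α)) (g i) (hg i)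
    (fun b => by rw [hm, map_pow])

end K71.ChartAlg
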