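import Groth.Agent.FlatMor.K71.ChartAlg
import Groth.Agent.Cons9.K119.GenFib
import Groth.Agent.Ega43.FibSch2
import Groth.Agent.Sga67.CohBasic
import Groth.Agent.Divis.WeakAss

/-!
# The chart statement for a product of schemes over an algebraically closed field
-/

set_option autoImplicit false
universe u
open CategoryTheory CategoryTheory.Limits AlgebraicGeometry TopologicalSpace

namespace K71.ChartGeo

open K71.FibInj K119.GenTB MvPolynomial

variable {k : Type u} [Field k]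

/-- The scalars in the ring of sections of a `k`-scheme. -/
noncomputable def sc {X : Scheme.{u}} (p : X ⟶ Spec (CommRingCat.of k)) (U : X.Opens) : k →+* Γ(X, U) :=
  (p.appLE ⊤ U le_top).hom.comp (Scheme.ΓSpecIso (CommRingCat.of k)).inv.hom

theorem appLE_sc {X Y : Scheme.{u}} (f : Y ⟶ X) (p : X ⟶ Spec (CommRingCat.of k)) {U : X.Opens} {V : Y.Opens}
    (e : V ≤ f ⁻¹ᵁ U) : (f.appLE U V e).hom.comp (sc p U) = sc (f ≫ p) V := by
  have h := Scheme.Hom.appLE_comp_appLE f p ⊤ U V le_top e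
  rw [sc, sc, ← RingHom.comp_assoc, ← CommRingCat.hom_comp, h]

theorem finiteType_sc {X : Scheme.{u}} (p : X ⟶ Spec (CommRingCat.of k)) [LocallyOfFiniteType p] {U : X.Opens}
    (hU : IsAffineOpen U) : (sc p U).FiniteType := by
  refine RingHom.FiniteType.comp (LocallyOfFiniteType.finiteType_appLE p (isAffineOpen_top _) hU le_top)
    (RingHom.FiniteType.of_surjective _ ?_)
  exact (Scheme.ΓSpecIso (CommRingCat.of k)).symm.commRingCatIsoToRingEquiv.surjective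

/-- The ring of the product chart is generated by the two factors. -/
theorem subring_eq_top {k' : Type u} [CommRing k'] {X S Y : Scheme.{u}} {p : X ⟶ Spec (CommRingCat.of k')}
    {q : S ⟶ Spec (CommRingCat.of k')} {f : Y ⟶ X} {g : Y ⟶ S} (H : IsPullback f g p q)
    {U : X.Opens} (hU : IsAffineOpen U) {T : S.Opens} (hT : IsAffineOpen T)
    (S' : Subring Γ(Y, f ⁻¹ᵁ U ⊓ g ⁻¹ᵁ T)) (h1 : (f.appLE U (f ⁻¹ᵁ U ⊓ g ⁻¹ᵁ T) inf_le_left).hom.range ≤ S')
    (h2 : (g.appLE T (f ⁻¹ᵁ U ⊓ g ⁻¹ᵁ T) inf_le_right).hom.range ≤ S') : S' = ⊤ := by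
  have h := isIso_pushoutSection_of_isAffineOpen H (US := ⊤) (UT := T) (UX := U) (UY := f ⁻¹ᵁ U ⊓ g ⁻¹ᵁ T)
    le_top le_top rfl (isAffineOpen_top _) hT hU
  rw [isIso_pushoutSection_iff] at h
  let a : Γ(X, U) ⟶ CommRingCat.of S' := CommRingCat.ofHom
    ((f.appLE U (f ⁻¹ᵁ U ⊓ g ⁻¹ᵁ T) inf_le_left).hom.codRestrict S' fun x => h1 ⟨x, rfl⟩)
  let b : Γ(S, T) ⟶ CommRingCat.of S' := CommRingCat.ofHom
    ((g.appLE T (f ⁻¹ᵁ U ⊓ g ⁻¹ᵁ T) inf_le_right).hom.codRestrict S' fun x => h2 ⟨x, rfl⟩)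
  let s : CommRingCat.of S' ⟶ Γ(Y, f ⁻¹ᵁ U ⊓ g ⁻¹ᵁ T) := CommRingCat.ofHom S'.subtype
  have hs : Function.Injective s := Subtype.val_injective
  have hw : p.appLE ⊤ U le_top ≫ a = q.appLE ⊤ T le_top ≫ b := by
    ext x
    exact congr($(h.w) x)
  have h3 : h.desc a b hw ≫ s = 𝟙 _ := by
    apply h.hom_ext
    · rw [← Category.assoc, h.inl_desc]
      rfl
    · rw [← Category.assoc, h.inr_desc]
      rfl
  rw [eq_top_iff]
  intro x _
  have h4 : s (h.desc a b hw x) = x := congr($h3 x)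
  rw [← h4]
  exact (h.desc a b hw x).2

section main

variable [IsAlgClosed k] {X S Y : Scheme.{u}} {p : X ⟶ Spec (CommRingCat.of k)}
  {q : S ⟶ Spec (CommRingCat.of k)} {f : Y ⟶ X} {g : Y ⟶ S} (H : IsPullback f g p q)
  [LocallyOfFiniteType p] [LocallyOfFiniteType q]

omit [IsAlgClosed k] [LocallyOfFiniteType p] [LocallyOfFiniteType q] in
include H in
theorem isAffineOpen_chart {U : X.Opens} (hU : IsAffineOpen U) {T : S.Opens} (hT : IsAffineOpen T) :
    IsAffineOpen (f ⁻¹ᵁ U ⊓ g ⁻¹ᵁ T) := by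
  have : IsAffine _ := hU
  have : IsAffine _ := hT
  have : IsAffine (⊤ : (Spec (CommRingCat.of k)).Opens) := isAffineOpen_top _
  exact .of_isIso (Scheme.Hom.isPullback_resLE H (US := ⊤) (UT := T) (UX := U)
    (UY := f ⁻¹ᵁ U ⊓ g ⁻¹ᵁ T) le_top le_top rfl).isoPullback.hom

omit [IsAlgClosed k] in
include H in
theorem locallyOfFiniteType_comp : LocallyOfFiniteType (g ≫ q) := by
  have : LocallyOfFiniteType g := MorphismProperty.of_isPullback H ‹_›
  infer_instance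

omit [IsAlgClosed k] in
include H in
/-- The points of a maximal ideal are closed. -/
theorem isClosed_of_isMaximal {V : Y.Opens} (hV : IsAffineOpen V) (z : Y) (hz : z ∈ V)
    (h : (hV.primeIdealOf ⟨z, hz⟩).asIdeal.IsMaximal) : IsClosed ({z} : Set Y) := by
  have := locallyOfFiniteType_comp H
  have : JacobsonSpace Y := LocallyOfFiniteType.jacobsonSpace (g ≫ q)
  have h1 : hV.primeIdealOf ⟨z, hz⟩ ∈ closedPoints (Spec Γ(Y, V)) :=
    (PrimeSpectrum.isClosed_singleton_iff_isMaximal _).2 h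
  rw [← hV.fromSpec.isOpenEmbedding.preimage_closedPoints] at h1
  have h2 : hV.fromSpec (hV.primeIdealOf ⟨z, hz⟩) ∈ closedPoints Y := h1
  rw [hV.fromSpec_primeIdealOf] at h2
  exact h2

include H in
/-- The chart statement. -/
theorem exists_poly (ℰ : Y.Modules) (hℰ : Coh.IsCoh ℰ) (hflat : FlatMod.IsFlatOver g ℰ)
    (hnz : ∀ z : Y, z ∈ MoreMor.relAss g ℰ → ¬ IsClosed ({z} : Set Y))
    {U : X.Opens} (hU : IsAffineOpen U) {T : S.Opens} (hT : IsAffineOpen T)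
    {κ : Type*} (y : κ → Γ(X, U)) (hy : letI := (sc p U).toAlgebra; Algebra.adjoin k (Set.range y) = ⊤)
    (a : ℕ) (hdim : ringKrullDim Γ(Y, f ⁻¹ᵁ U ⊓ g ⁻¹ᵁ T) ≤ a)
    {ι : Type} [Fintype ι] (m : ι → Γ(X, U)) (gg : κ → Fin (a + 1) → ι) (hgg : ∀ i, Function.Injective (gg i))
    (hm : ∀ i b, m (gg i b) = y i ^ (b : ℕ)) :
    ∃ P : MvPolynomial ι k, P ≠ 0 ∧ ∀ c, eval c P ≠ 0 → ∀ Q : Ideal Γ(Y, f ⁻¹ᵁ U ⊓ g ⁻¹ᵁ T), Q.IsPrime →
      letI : Algebra Γ(S, T) Γ(Y, f ⁻¹ᵁ U ⊓ g ⁻¹ᵁ T) :=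
        (g.appLE T (f ⁻¹ᵁ U ⊓ g ⁻¹ᵁ T) inf_le_right).hom.toAlgebra
      FI Γ(S, T) Γ(ℰ, f ⁻¹ᵁ U ⊓ g ⁻¹ᵁ T) ((f.appLE U (f ⁻¹ᵁ U ⊓ g ⁻¹ᵁ T) inf_le_left).hom
        (∑ α, sc p U (c α) * m α)) Q := by
  have hqY := locallyOfFiniteType_comp H
  let V := f ⁻¹ᵁ U ⊓ g ⁻¹ᵁ T
  have hV : IsAffineOpen V := isAffineOpen_chart H hU hT
  let A := Γ(S, T)
  let R := Γ(X, U)
  let C := Γ(Y, V)
  let E := Γ(ℰ, V)
  let ak : Algebra k A := (sc q T).toAlgebra
  let rk : Algebra k R := (sc p U).toAlgebra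
  let ck : Algebra k C := (sc (g ≫ q) V).toAlgebra
  let ac : Algebra A C := (g.appLE T V inf_le_right).hom.toAlgebra
  let rc : Algebra R C := (f.appLE U V inf_le_left).hom.toAlgebra
  let ae : Module A E := Module.compHom E (g.appLE T V inf_le_right).hom
  have t1 : IsScalarTower A C E := ⟨fun a b m => mul_smul (g.appLE T V inf_le_right a) b m⟩
  have t2 : IsScalarTower k A C := IsScalarTower.of_algebraMap_eq fun x =>
    (RingHom.congr_fun (appLE_sc g q (inf_le_right : V ≤ g ⁻¹ᵁ T)) x).symm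
  have t3 : IsScalarTower k R C := IsScalarTower.of_algebraMap_eq fun x => by
    have h1 := RingHom.congr_fun (appLE_sc f p (inf_le_left : V ≤ f ⁻¹ᵁ U)) x
    rw [H.w] at h1
    exact h1.symm
  have f1 : Algebra.FiniteType k A := finiteType_sc q hT
  have f2 : Algebra.FiniteType k C := finiteType_sc (g ≫ q) hV
  have f3 : Module.Finite C E := Groth.Agent.Sga67.CohBasic.finite_sections hℰ ⟨V, hV⟩
  have f4 : Module.Flat A E := Groth.Agent.Ega43.FibSch2.flat_sections g ℰ hℰ.1 hflat hT hV inf_le_right rfl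
  have hgen : ∀ S' : Subring C, (algebraMap A C).range ≤ S' → (algebraMap R C).range ≤ S' → S' = ⊤ :=
    fun S' h1 h2 => subring_eq_top H hU hT S' h2 h1
  obtain ⟨P, hP, hP'⟩ := ChartAlg.exists_poly (k := k) (A := A) (R := R) (C := C) hgen y hy (E := E) a hdim m gg hgg hm (by
    intro Q hQ hRA hmax hQm
    obtain ⟨z, hz, hzQ⟩ := Groth.Agent.Divis.WeakAss.exists_point hV ⟨Q, hQ⟩
    have h1 : z ∈ MoreMor.relAss g ℰ := by
      rw [K119.GenSch.mem_relAss_iff_RA g ℰ hV hT inf_le_right z hz hℰ.1, hzQ]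
      exact hRA
    refine hnz z h1 (isClosed_of_isMaximal H hV z hz ?_)
    rw [hzQ]
    exact hQm)
  refine ⟨P, hP, fun c hc Q hQ => ?_⟩
  have h1 := hP' c hc Q hQ
  have h2 : (f.appLE U V inf_le_left).hom (∑ α, sc p U (c α) * m α) = ∑ α, c α • algebraMap R C (m α) := by
    rw [map_sum]
    refine Finset.sum_congr rfl fun α _ => ?_
    rw [map_mul, Algebra.smul_def, IsScalarTower.algebraMap_apply k R C]
    rfl
  rw [h2]
  exact h1

end main

end K71.ChartGeo
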