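import Groth.Agent.Flat2B.GExLoc
import Groth.Agent.FlatA.NagataOpen
import Groth.Agent.QGor.K967.FibTor
import Groth.Agent.EGA43.K120.StalkCoker

/-!
# Multiplication by an element which is injective on a fibre

`FI A E F q` : multiplication by `F` is injective on `E_q / p E_q`, where `p = q ∩ A`.
-/

set_option autoImplicit false
universe u

open TensorProduct

namespace K71.FibInj

open Groth.Agent Groth.Agent.Flat2B.GExLoc

variable (A : Type u) {B : Type u} [CommRing A] [CommRing B] [Algebra A B]
  (E : Type u) [AddCommGroup E] [Module B E]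

/-- The submodule `(q ∩ A) E`. -/
def sub (q : Ideal B) : Submodule B E :=
  ((q.comap (algebraMap A B)).map (algebraMap A B)) • (⊤ : Submodule B E)

/-- Multiplication by `F` is injective on the fibre of `E` at `q`. -/
def FI (F : B) (q : Ideal B) : Prop :=
  ∀ x : E, (∃ s : B, s ∉ q ∧ s • F • x ∈ sub A E q) → ∃ s : B, s ∉ q ∧ s • x ∈ sub A E q

variable [Module A E] [IsScalarTower A B E]

/-- Multiplication by `F`. -/
def mul {B E : Type*} [CommRing B] [AddCommGroup E] [Module B E] (F : B) : E →ₗ[B] E :=
  LinearMap.lsmul B E F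

theorem mul_apply {B E : Type*} [CommRing B] [AddCommGroup E] [Module B E] (F : B) (x : E) :
    mul F x = F • x := rfl

section

variable {A E} [Module.Flat A E] (F : B) (q : Ideal B) [q.IsPrime]

/-- The set-up on localized modules. -/
theorem key [Algebra.FinitePresentation A B] [Module.FinitePresentation B E] (h : FI A E F q) :
    Function.Injective (LocalizedModule.map q.primeCompl (mul F : E →ₗ[B] E)) ∧
      FlatCA.FlatAt A q (E ⧸ LinearMap.range (mul F : E →ₗ[B] E)) := by
  let p := q.comap (algebraMap A B)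
  have hp : p.IsPrime := Ideal.IsPrime.comap _
  have hlo : q.LiesOver p := ⟨rfl⟩
  let := Localization.AtPrime.algebraOfLiesOver p q
  let R := Localization.AtPrime p
  let S := Localization.AtPrime q
  let N' := LocalizedModule q.primeCompl E
  let : Module R N' := Module.compHom N' (algebraMap R S)
  have : IsScalarTower R S N' := ⟨fun r s m => by
    rw [Algebra.smul_def, mul_smul]; rfl⟩
  have : IsScalarTower A R N' := ⟨fun a r n => by
    have h1 : (a • r) • n = (algebraMap R S (a • r)) • n := rfl
    have h2 : r • n = (algebraMap R S r) • n := rfl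
    rw [h1, h2, Algebra.smul_def, map_mul, mul_smul, ← IsScalarTower.algebraMap_apply, algebraMap_smul]⟩
  have : Module.Flat A N' := Flat2B.FlatCrit.flat_of_isLocalizedModule (R := A) q.primeCompl
    (LocalizedModule.mkLinearMap q.primeCompl E)
  have : Module.Flat R N' := (Module.flat_iff_of_isLocalization R p.primeCompl N').mpr inferInstance
  let u' : N' →ₗ[S] N' := LocalizedModule.map q.primeCompl (mul F : E →ₗ[B] E)
  have hmap : (IsLocalRing.maximalIdeal R).map (algebraMap R S) = (p.map (algebraMap A B)).map (algebraMap B S) := by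
    rw [← Localization.AtPrime.map_eq_maximalIdeal, Ideal.map_map, Ideal.map_map,
      ← IsScalarTower.algebraMap_eq, ← IsScalarTower.algebraMap_eq]
  have key := S2107.result (R := R) (S := S) (isEssFinitePresentation_localization q p) u' (by
    intro x hx
    obtain ⟨⟨m, t⟩, rfl⟩ := IsLocalizedModule.mk'_surjective q.primeCompl
      (LocalizedModule.mkLinearMap q.primeCompl E) x
    rw [hmap] at hx ⊢
    simp only [Function.uncurry_apply_pair] at hx ⊢
    rw [Flat2A.KeyLemma.map_mem_smul_top_iff]
    have hu' : u' (IsLocalizedModule.mk' (LocalizedModule.mkLinearMap q.primeCompl E) m t) =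
      IsLocalizedModule.mk' (LocalizedModule.mkLinearMap q.primeCompl E) (F • m) t := by
      exact IsLocalizedModule.map_mk' _ _ _ _ _ _
    rw [hu', Flat2A.KeyLemma.map_mem_smul_top_iff] at hx
    obtain ⟨c, hc⟩ := hx
    obtain ⟨s, hs, hsm⟩ := h m ⟨c.1, c.2, hc⟩
    exact ⟨⟨s, hs⟩, hsm⟩)
  refine ⟨key.1, ?_⟩
  have h2 : LinearMap.range u' = (LinearMap.range (mul F : E →ₗ[B] E)).localized q.primeCompl :=
    (LinearMap.localized'_range_eq_range_localizedMap S q.primeCompl
      (LocalizedModule.mkLinearMap q.primeCompl E) (LocalizedModule.mkLinearMap q.primeCompl E) _).symm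
  have h3 : Module.Flat A (N' ⧸ LinearMap.range u') := by
    have hk := key.2
    have : IsScalarTower A R (N' ⧸ LinearMap.range u') := ⟨fun a r n => by
      obtain ⟨n, rfl⟩ := Submodule.Quotient.mk_surjective _ n
      rw [← Submodule.Quotient.mk_smul, ← Submodule.Quotient.mk_smul, ← Submodule.Quotient.mk_smul, smul_assoc]⟩
    exact (Module.flat_iff_of_isLocalization R p.primeCompl _).mp hk
  rw [h2] at h3
  let e := (localizedQuotientEquiv q.primeCompl (LinearMap.range (mul F : E →ₗ[B] E))).restrictScalars A
  exact Module.Flat.of_linearEquiv e.symm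

omit [Module.Flat A E] in
/-- Conversely: injectivity at `q` with flat cokernel gives injectivity on the fibre. -/
theorem of_flat (hinj : Function.Injective (LocalizedModule.map q.primeCompl (mul F : E →ₗ[B] E)))
    (hC : FlatCA.FlatAt A q (E ⧸ LinearMap.range (mul F : E →ₗ[B] E))) : FI A E F q := by
  intro x hx
  obtain ⟨s, hs, hsx⟩ := hx
  let S := Localization.AtPrime q
  let N' := LocalizedModule q.primeCompl E
  let p := q.comap (algebraMap A B)
  let f : E →ₗ[B] E := mul F
  let π : E →ₗ[B] E ⧸ LinearMap.range f := (LinearMap.range f).mkQ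
  have hex : Function.Exact f π := by
    rw [LinearMap.exact_iff, Submodule.ker_mkQ]
  have hF : Module.Flat A (LocalizedModule q.primeCompl (E ⧸ LinearMap.range f)) := hC
  have hres : ∀ y : N', y ∈ ((p.map (algebraMap A B)).map (algebraMap B S)) • (⊤ : Submodule S N') ↔
      y ∈ p • (⊤ : Submodule A N') := by
    intro y
    rw [Ideal.map_map, ← IsScalarTower.algebraMap_eq, ← Submodule.restrictScalars_mem A,
      Ideal.smul_restrictScalars, Submodule.restrictScalars_top]
  have h1 : K967.FibTor.lmap (A := A) q f (LocalizedModule.mkLinearMap q.primeCompl E x) ∈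
      p • (⊤ : Submodule A N') := by
    rw [K967.FibTor.lmap_mk, ← hres]
    have h2 := (Flat2A.KeyLemma.map_mem_smul_top_iff q.primeCompl S
      (LocalizedModule.mkLinearMap q.primeCompl E) (p.map (algebraMap A B)) (f x) 1).2
      ⟨⟨s, hs⟩, hsx⟩
    rwa [IsLocalizedModule.mk'_one] at h2
  have h3 := K967.FibTor.mem_of_flat p (K967.FibTor.lmap (A := A) q f) (K967.FibTor.lmap (A := A) q π)
    hinj (K967.FibTor.lmap_exact f π q hex)
    (K967.FibTor.lmap_surjective q π (Submodule.mkQ_surjective _)) _ h1
  rw [← hres] at h3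
  have h4 : IsLocalizedModule.mk' (LocalizedModule.mkLinearMap q.primeCompl E) x (1 : q.primeCompl) ∈
      ((p.map (algebraMap A B)).map (algebraMap B S)) • (⊤ : Submodule S N') := by
    rw [IsLocalizedModule.mk'_one]
    exact h3
  obtain ⟨c, hc⟩ := (Flat2A.KeyLemma.map_mem_smul_top_iff q.primeCompl S
      (LocalizedModule.mkLinearMap q.primeCompl E) (p.map (algebraMap A B)) x 1).1 h4
  exact ⟨c.1, c.2, hc⟩

omit [Module A E] [IsScalarTower A B E] [CommRing A] [Algebra A B] [Module.Flat A E] in
/-- Injectivity of the localized multiplication, elementwise. -/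
theorem injective_map_iff : Function.Injective (LocalizedModule.map q.primeCompl (mul F : E →ₗ[B] E)) ↔
    ∀ x : E, F • x = 0 → ∃ s : B, s ∉ q ∧ s • x = 0 := by
  constructor
  · intro h x hx
    have h1 : LocalizedModule.mkLinearMap q.primeCompl E x = 0 := by
      apply h
      have h2 := IsLocalizedModule.map_apply q.primeCompl (LocalizedModule.mkLinearMap q.primeCompl E)
        (LocalizedModule.mkLinearMap q.primeCompl E) (mul F : E →ₗ[B] E) x
      change IsLocalizedModule.map q.primeCompl (LocalizedModule.mkLinearMap q.primeCompl E)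
        (LocalizedModule.mkLinearMap q.primeCompl E) (mul F : E →ₗ[B] E) _ = _
      rw [h2, mul_apply, hx, map_zero, map_zero]
    obtain ⟨s, hs⟩ := (IsLocalizedModule.eq_zero_iff q.primeCompl _).1 h1
    exact ⟨s.1, s.2, hs⟩
  · intro h
    rw [injective_iff_map_eq_zero]
    intro y hy
    obtain ⟨⟨x, t⟩, rfl⟩ := IsLocalizedModule.mk'_surjective q.primeCompl
      (LocalizedModule.mkLinearMap q.primeCompl E) y
    simp only [Function.uncurry_apply_pair] at hy ⊢
    have h1 : IsLocalizedModule.mk' (LocalizedModule.mkLinearMap q.primeCompl E) (F • x) t = 0 := by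
      rw [← hy]
      exact (IsLocalizedModule.map_mk' (S := q.primeCompl) (LocalizedModule.mkLinearMap q.primeCompl E)
        (LocalizedModule.mkLinearMap q.primeCompl E) (mul F : E →ₗ[B] E) x t).symm
    rw [IsLocalizedModule.mk'_eq_zero'] at h1
    obtain ⟨s, hs⟩ := h1
    obtain ⟨r, hr, hrx⟩ := h (s.1 • x) (by rw [smul_comm]; exact hs)
    rw [IsLocalizedModule.mk'_eq_zero']
    refine ⟨⟨r, hr⟩ * s, ?_⟩
    rw [mul_smul]
    exact hrx

end

variable {A E} in
/-- The set of primes at which multiplication by `F` is injective on the fibre is open. -/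
theorem isOpen_FI [IsNoetherianRing A] [Algebra.FiniteType A B] [Module.Finite B E] [Module.Flat A E]
    (F : B) : IsOpen {q : PrimeSpectrum B | FI A E F q.asIdeal} := by
  have hB : IsNoetherianRing B := Algebra.FiniteType.isNoetherianRing A B
  have hfp : Algebra.FinitePresentation A B := Algebra.FinitePresentation.of_finiteType.1 inferInstance
  have hfpE : Module.FinitePresentation B E := Module.finitePresentation_of_finite B E
  have heq : {q : PrimeSpectrum B | FI A E F q.asIdeal} =
      {q : PrimeSpectrum B | ∀ x : E, F • x = 0 → ∃ s : B, s ∉ q.asIdeal ∧ s • x = 0} ∩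
      {q : PrimeSpectrum B | Module.Flat A (LocalizedModule q.asIdeal.primeCompl
        (E ⧸ LinearMap.range (mul F : E →ₗ[B] E)))} := by
    ext q
    constructor
    · intro h
      have h1 := key F q.asIdeal h
      exact ⟨(injective_map_iff F q.asIdeal).1 h1.1, h1.2⟩
    · rintro ⟨h1, h2⟩
      exact of_flat F q.asIdeal ((injective_map_iff F q.asIdeal).2 h1) h2
  rw [heq]
  refine IsOpen.inter ?_ (FlatA.NagataOpen.isOpen_flat_locus_of_noetherian)
  have hK : (LinearMap.ker (mul F : E →ₗ[B] E)).FG := IsNoetherian.noetherian _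
  obtain ⟨t, ht⟩ := hK
  rw [isOpen_iff_forall_mem_open]
  intro q hq
  have hch : ∀ x : E, ∃ s : B, s ∉ q.asIdeal ∧ (F • x = 0 → s • x = 0) := by
    intro x
    by_cases hx : F • x = 0
    · obtain ⟨s, hs, hsx⟩ := hq x hx
      exact ⟨s, hs, fun _ => hsx⟩
    · exact ⟨1, fun h => q.isPrime.ne_top ((Ideal.eq_top_iff_one _).2 h), fun h => (hx h).elim⟩
  choose s hs hsx using hch
  refine ⟨PrimeSpectrum.basicOpen (∏ x ∈ t, s x), ?_, (PrimeSpectrum.basicOpen _).isOpen, ?_⟩
  · intro q' hq' x hx
    refine ⟨∏ x ∈ t, s x, hq', ?_⟩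
    have hx' : x ∈ Submodule.span B (t : Set E) := by rw [ht]; exact hx
    refine Submodule.span_induction (p := fun y _ => (∏ x ∈ t, s x) • y = 0) ?_ (smul_zero _) ?_ ?_ hx'
    · intro y hy
      have hy' : F • y = 0 := by
        have : y ∈ LinearMap.ker (mul F : E →ₗ[B] E) := by rw [← ht]; exact Submodule.subset_span hy
        exact this
      obtain ⟨c, hc⟩ := Finset.dvd_prod_of_mem s (Finset.mem_coe.mp hy)
      rw [hc, mul_comm, mul_smul, hsx y hy', smul_zero]
    · intro y z _ _ hy hz
      rw [smul_add, hy, hz, add_zero]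
    · intro c y _ hy
      rw [smul_comm, hy, smul_zero]
  · change (∏ x ∈ t, s x) ∉ q.asIdeal
    rw [Ideal.IsPrime.prod_mem_iff]
    rintro ⟨x, _, hx⟩
    exact hs x hx

end K71.FibInj
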