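import Groth.Agent.CalgC.DimFT
import Mathlib.RingTheory.Nullstellensatz
import Mathlib.RingTheory.KrullDimension.Basic

/-!
# Finite unions of linear subspaces and dimension

If the `k`-points of the zero set of the kernel of a surjection `k[t] → D` (k algebraically closed) lie in a
finite union of linear subspaces of dimension at most `r`, then `dim D ≤ r`.
-/

set_option autoImplicit false
universe u

namespace K71.LinIdeal

open MvPolynomial Module

variable {k : Type u} [Field k] {ι : Type} [Finite ι]

/-- A linear parametrization of a linear subspace. -/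
theorem exists_param (W : Submodule k (ι → k)) :
    ∃ ρ : MvPolynomial ι k →ₐ[k] MvPolynomial (Fin (finrank k W)) k, Function.Surjective ρ ∧
      ∀ f, ρ f = 0 → ∀ c ∈ W, eval c f = 0 := by
  classical
  have := Fintype.ofFinite ι
  let w := finBasis k W
  let ρ : MvPolynomial ι k →ₐ[k] MvPolynomial (Fin (finrank k W)) k :=
    aeval (fun α => ∑ j, X j * C ((w j : ι → k) α))
  obtain ⟨g, hg⟩ := LinearMap.exists_leftInverse_of_injective W.subtype (by simp)
  have hgw : ∀ i, g (w i : ι → k) = w i := fun i => LinearMap.congr_fun hg (w i)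
  refine ⟨ρ, ?_, ?_⟩
  · rw [← AlgHom.range_eq_top, eq_top_iff, ← MvPolynomial.adjoin_range_X, Algebra.adjoin_le_iff]
    rintro _ ⟨j, rfl⟩
    refine ⟨∑ α, C (w.coord j (g (Pi.single α 1))) * X α, ?_⟩
    change ρ _ = _
    rw [map_sum]
    have h1 : ∀ α, ρ (C (w.coord j (g (Pi.single α 1))) * X α) =
        ∑ i, X i * C ((w i : ι → k) α * w.coord j (g (Pi.single α 1))) := by
      intro α
      rw [map_mul, aeval_X, Finset.mul_sum]
      refine Finset.sum_congr rfl fun i _ => ?_
      have : ρ (C (w.coord j (g (Pi.single α 1)))) = C (w.coord j (g (Pi.single α 1))) := by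
        rw [← algebraMap_eq, ← algebraMap_eq]; exact ρ.commutes _
      rw [this, C_mul]
      ring
    simp only [h1]
    rw [Finset.sum_comm]
    have h2 : ∀ i, ∑ α, (X i * C ((w i : ι → k) α * w.coord j (g (Pi.single α 1))) :
        MvPolynomial (Fin (finrank k W)) k) = X i * C (if i = j then 1 else 0) := by
      intro i
      rw [← Finset.mul_sum, ← map_sum]
      congr 2
      have h3 : (w i : ι → k) = ∑ α, (w i : ι → k) α • (Pi.single α (1 : k) : ι → k) := by
        funext β
        simp [Finset.sum_apply, Pi.single_apply]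
      have h4 : w.coord j (g (w i : ι → k)) = ∑ α, (w i : ι → k) α * w.coord j (g (Pi.single α 1)) := by
        conv_lhs => rw [h3, map_sum, map_sum]
        simp
      rw [← h4, hgw]
      simp [Finsupp.single_apply]
    simp only [h2]
    simp
  · intro f hf c hc
    let lam := w.repr ⟨c, hc⟩
    have h1 : eval c f = eval (fun j => lam j) (ρ f) := by
      have h2 : (eval c : MvPolynomial ι k →+* k) =
          (eval (fun j => lam j) : MvPolynomial (Fin (finrank k W)) k →+* k).comp (ρ : _ →+* _) := by
        refine MvPolynomial.ringHom_ext ?_ ?_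
        · intro r
          simp [ρ]
        · intro α
          have h3 : c = ∑ j, lam j • (w j : ι → k) := by
            have h4 := congr((($(w.sum_repr ⟨c, hc⟩) : W) : ι → k))
            rw [Submodule.coe_sum] at h4
            exact h4.symm
          simp only [eval_X, RingHom.coe_comp, Function.comp_apply, RingHom.coe_coe, ρ, aeval_X,
            map_sum, map_mul, eval_C]
          conv_lhs => rw [h3]
          simp [Finset.sum_apply]
      rw [h2]; rfl
    rw [h1, hf, map_zero]

/-- The dimension bound. -/
theorem ringKrullDim_le [IsAlgClosed k] {D : Type u} [CommRing D] (ψ : MvPolynomial ι k →+* D)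
    (hψ : Function.Surjective ψ) {τ : Type*} [Finite τ] (W : τ → Submodule k (ι → k)) (r : ℕ)
    (hW : ∀ j, finrank k (W j) ≤ r)
    (h : ∀ c : ι → k, (∀ f, ψ f = 0 → eval c f = 0) → ∃ j, c ∈ W j) : ringKrullDim D ≤ r := by
  classical
  have := Fintype.ofFinite τ
  choose ρ hρ hρW using fun j => exists_param (W j)
  -- every prime contains one of the linear ideals
  have key : ∀ P : Ideal D, P.IsPrime → ∃ j, RingHom.ker (ρ j) ≤ P.comap ψ := by
    intro P hP
    have hP' : (P.comap ψ).IsPrime := Ideal.IsPrime.comap _
    have h1 : ∏ j, RingHom.ker (ρ j) ≤ P.comap ψ := by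
      have h2 : ∏ j, RingHom.ker (ρ j) ≤ (RingHom.ker ψ).radical := by
        rw [← MvPolynomial.vanishingIdeal_zeroLocus_eq_radical (K := k)]
        intro f hf
        rw [MvPolynomial.mem_vanishingIdeal_iff]
        intro c hc
        obtain ⟨j, hj⟩ := h c (fun f hf => by
          rw [MvPolynomial.mem_zeroLocus_iff] at hc
          have := hc f hf
          rwa [MvPolynomial.aeval_eq_eval] at this)
        have h3 : f ∈ RingHom.ker (ρ j) := Ideal.prod_le_inf.trans (Finset.inf_le (Finset.mem_univ j)) hf
        rw [MvPolynomial.aeval_eq_eval]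
        exact hρW j f h3 c hj
      refine h2.trans ?_
      rw [hP'.radical_le_iff]
      intro x hx
      rw [Ideal.mem_comap, (RingHom.mem_ker (f := ψ)).1 hx]
      exact zero_mem _
    rw [Ideal.IsPrime.prod_le hP'] at h1
    obtain ⟨j, _, hj⟩ := h1
    exact ⟨j, hj⟩
  rw [ringKrullDim, Order.krullDim]
  refine iSup_le fun l => ?_
  obtain ⟨j, hj⟩ := key l.head.asIdeal l.head.isPrime
  have h1 : (l.length : WithBot ℕ∞) ≤ ringKrullDim (D ⧸ l.head.asIdeal) := by
    rw [ringKrullDim_quotient]
    let l' : LTSeries (PrimeSpectrum.zeroLocus (R := D) l.head.asIdeal) :=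
      { length := l.length
        toFun := fun i => ⟨l i, (PrimeSpectrum.mem_zeroLocus _ _).2 (by
          have := l.monotone (Fin.zero_le i)
          exact this)⟩
        step := fun i => l.step i }
    exact Order.LTSeries.length_le_krullDim l'
  have h2 : ringKrullDim (D ⧸ l.head.asIdeal) ≤ (finrank k (W j) : ℕ) := by
    rw [← Groth.Agent.CalgC.DimFT.ringKrullDim_mvPolynomial_fin (k := k) (finrank k (W j))]
    let θ : MvPolynomial (Fin (finrank k (W j))) k →+* D ⧸ l.head.asIdeal :=
      ((ρ j : _ →+* _).liftOfSurjective (hρ j)) ⟨(Ideal.Quotient.mk l.head.asIdeal).comp ψ, by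
        intro x hx
        have := hj hx
        rw [RingHom.mem_ker, RingHom.comp_apply, Ideal.Quotient.eq_zero_iff_mem]
        exact this⟩
    refine ringKrullDim_le_of_surjective θ ?_
    intro y
    obtain ⟨y, rfl⟩ := Ideal.Quotient.mk_surjective y
    obtain ⟨x, rfl⟩ := hψ y
    exact ⟨ρ j x, RingHom.liftOfRightInverse_comp_apply _ _ _ _ _⟩
  exact h1.trans (h2.trans (by exact_mod_cast hW j))

end K71.LinIdeal
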