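import Groth.Agent.FlatMor.K71.Special
import Groth.Agent.FlatMor.K71.LinIdeal
import Mathlib.RingTheory.Ideal.KrullsHeightTheorem
import Mathlib.RingTheory.Ideal.AssociatedPrime.Localization
import Mathlib.RingTheory.Ideal.AssociatedPrime.Finiteness
import Mathlib.RingTheory.Ideal.MinimalPrime.Localization

/-!
# Generic linear combinations are regular on all fibres

The dimension count: `C` of dimension `≤ a`, at each associated prime of each closed fibre the family `m`
has rank `≥ a + 1`; then a general linear combination of the `m α` is injective on every fibre.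
-/

set_option autoImplicit false
universe u

open TensorProduct

namespace K71.GenCount

open K71.FibInj K71.Special MvPolynomial Module

attribute [local instance] MvPolynomial.algebraMvPolynomial

/-- Failure of injectivity produces an associated prime containing the element. -/
theorem exists_assPrime {A C : Type u} [CommRing A] [CommRing C] [Algebra A C] [IsNoetherianRing C]
    {E : Type u} [AddCommGroup E] [Module C E] (F : C) (n : Ideal C) [hn : n.IsPrime]
    (h : ¬ FI A E F n) : ∃ q ∈ associatedPrimes C (E ⧸ sub A E n), F ∈ q ∧ q ≤ n := by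
  simp only [FI, not_forall, not_exists, not_and] at h
  obtain ⟨x, ⟨s, hs, hsx⟩, hx⟩ := h
  let y : E ⧸ sub A E n := Submodule.Quotient.mk (s • x)
  have hFy : F • y = 0 := by
    change Submodule.Quotient.mk (F • s • x) = _
    rw [Submodule.Quotient.mk_eq_zero, smul_comm]
    exact hsx
  let N : Submodule C (E ⧸ sub A E n) := Submodule.span C {y}
  have hann : Module.annihilator C N ≤ n := by
    intro r hr
    by_contra hrn
    refine hx (r * s) (fun h => (hn.mem_or_mem h).elim hrn hs) ?_
    rw [Module.mem_annihilator] at hr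
    have h1 := hr ⟨y, Submodule.mem_span_singleton_self y⟩
    have h2 : r • y = 0 := congr_arg Subtype.val h1
    have h3 : Submodule.Quotient.mk (p := sub A E n) (r • s • x) = 0 := h2
    rw [Submodule.Quotient.mk_eq_zero] at h3
    rw [mul_smul]
    exact h3
  obtain ⟨q, hq, hqn⟩ := Ideal.exists_minimalPrimes_le hann
  refine ⟨q, associatedPrimes.subset_of_injective (f := N.subtype) (Submodule.subtype_injective _)
    (Module.associatedPrimes.minimalPrimes_annihilator_subset_associatedPrimes C N hq), ?_, hqn⟩
  refine hq.1.2 ?_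
  rw [Module.mem_annihilator]
  rintro ⟨z, hz⟩
  obtain ⟨c, rfl⟩ := Submodule.mem_span_singleton.1 hz
  apply Subtype.ext
  change F • c • y = 0
  rw [smul_comm, hFy, smul_zero]

variable {k : Type u} [Field k] {ι : Type} [Fintype ι]

/-- The coefficients of the linear combinations lying in `q`. -/
def W (k : Type u) [Field k] {C : Type u} [CommRing C] [Algebra k C] (m : ι → C) (q : Ideal C) :
    Submodule k (ι → k) :=
  (q.restrictScalars k).comap (Fintype.linearCombination k m)

theorem mem_W {C : Type u} [CommRing C] [Algebra k C] (m : ι → C) (q : Ideal C) (c : ι → k) :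
    c ∈ W k m q ↔ ∑ α, c α • m α ∈ q := Iff.rfl

section

variable {A C : Type u} [CommRing A] [CommRing C] [Algebra A C] [Algebra k A] [Algebra k C]
  [IsScalarTower k A C] (m : ι → C)

/-- The generic linear combination. -/
noncomputable def gen : MvPolynomial ι C := ∑ α, X α * MvPolynomial.C (m α)

theorem ev_gen (c : ι → k) : ev C (fun i => algebraMap k A (c i)) (gen m) = ∑ α, c α • m α := by
  rw [gen, map_sum]
  refine Finset.sum_congr rfl fun α _ => ?_
  rw [map_mul, ev_C]
  have h1 : ev C (fun i => algebraMap k A (c i)) (X α) = algebraMap A C (algebraMap k A (c α)) := eval_X _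
  rw [h1, ← IsScalarTower.algebraMap_apply, Algebra.smul_def]

/-- The scalar extension. -/
noncomputable def phi (k : Type u) [Field k] (C : Type u) [CommRing C] [Algebra k C] :
    MvPolynomial ι k →+* MvPolynomial ι C := map (algebraMap k C)

theorem ev_phi (c : ι → k) (f : MvPolynomial ι k) :
    ev C (fun i => algebraMap k A (c i)) (phi k C f) = algebraMap k C (eval c f) := by
  have h : (ev C (fun i => algebraMap k A (c i))).comp (map (algebraMap k C)) =
      (algebraMap k C).comp (eval c) := by
    refine MvPolynomial.ringHom_ext ?_ ?_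
    · intro r
      simp [ev]
    · intro i
      simp only [RingHom.comp_apply, map_X, eval_X]
      have h1 : ev C (fun i => algebraMap k A (c i)) (X i) = algebraMap A C (algebraMap k A (c i)) := eval_X _
      rw [h1, ← IsScalarTower.algebraMap_apply]
  exact RingHom.congr_fun h f

/-- The main theorem. -/
theorem exists_poly [IsAlgClosed k] [Algebra.FiniteType k A] [Algebra.FiniteType k C]
    {E : Type u} [AddCommGroup E] [Module C E] [Module A E] [IsScalarTower A C E]
    [Module.Finite C E] [Module.Flat A E] (a : ℕ) (hdim : ringKrullDim C ≤ a)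
    (hrk : ∀ n : Ideal C, n.IsMaximal → ∀ q ∈ associatedPrimes C (E ⧸ sub A E n),
      finrank k (W k m q) + (a + 1) ≤ Fintype.card ι) :
    ∃ f : MvPolynomial ι k, f ≠ 0 ∧ ∀ c, eval c f ≠ 0 → ∀ q : Ideal C, q.IsPrime →
      FI A E (∑ α, c α • m α) q := by
  classical
  have hA : IsNoetherianRing A := Algebra.FiniteType.isNoetherianRing k A
  have hC : IsNoetherianRing C := Algebra.FiniteType.isNoetherianRing k C
  have hAC : Algebra.FiniteType A C := Algebra.FiniteType.of_restrictScalars_finiteType k A C
  have hfl : Module.Flat (MvPolynomial ι A) (MvPolynomial ι C ⊗[C] E) := Special.flat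
  have hft : Algebra.FiniteType (MvPolynomial ι A) (MvPolynomial ι C) := by
    have h1 : Algebra.FiniteType A (MvPolynomial ι C) := Algebra.FiniteType.trans (S := C) hAC inferInstance
    have h2 : IsScalarTower A (MvPolynomial ι A) (MvPolynomial ι C) := by
      refine IsScalarTower.of_algebraMap_eq fun r => ?_
      rw [Special.algebraMap_apply, algebraMap_eq, map_C]
      rfl
    exact Algebra.FiniteType.of_restrictScalars_finiteType A _ _
  let Z : Set (PrimeSpectrum (MvPolynomial ι C)) :=
    {Q | ¬ FI (MvPolynomial ι A) (MvPolynomial ι C ⊗[C] E) (gen m) Q.asIdeal}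
  have hZ : IsClosed Z := (isOpen_FI (A := MvPolynomial ι A) (E := MvPolynomial ι C ⊗[C] E) (gen m)).isClosed_compl
  let I : Ideal (MvPolynomial ι C) := PrimeSpectrum.vanishingIdeal Z
  have hIZ : ∀ Q : Ideal (MvPolynomial ι C), Q.IsPrime → I ≤ Q →
      ¬ FI (MvPolynomial ι A) (MvPolynomial ι C ⊗[C] E) (gen m) Q := by
    intro Q hQ hIQ
    have h1 : (⟨Q, hQ⟩ : PrimeSpectrum (MvPolynomial ι C)) ∈ PrimeSpectrum.zeroLocus (I : Set (MvPolynomial ι C)) :=
      (PrimeSpectrum.mem_zeroLocus _ _).2 hIQ
    rw [PrimeSpectrum.zeroLocus_vanishingIdeal_eq_closure, hZ.closure_eq] at h1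
    exact h1
  by_cases hI : ∃ f : MvPolynomial ι k, f ≠ 0 ∧ phi k C f ∈ I
  · obtain ⟨f, hf0, hf⟩ := hI
    refine ⟨f, hf0, fun c hc q hq => ?_⟩
    by_contra hFI
    rw [← ev_gen (A := A) m c, ← Special.FI_iff] at hFI
    have hQ : (q.comap (ev C fun i => algebraMap k A (c i))).IsPrime := Ideal.IsPrime.comap _
    have h1 : (⟨_, hQ⟩ : PrimeSpectrum (MvPolynomial ι C)) ∈ Z := hFI
    have h2 : phi k C f ∈ q.comap (ev C fun i => algebraMap k A (c i)) :=
      (PrimeSpectrum.mem_vanishingIdeal _ _).1 hf _ h1
    rw [Ideal.mem_comap, ev_phi] at h2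
    refine hq.ne_top (Ideal.eq_top_of_isUnit_mem _ h2 ?_)
    exact (IsUnit.mk0 _ hc).map (algebraMap k C)
  exfalso
  push Not at hI
  have hI0 : I.comap (phi k C) = ⊥ := by
    rw [eq_bot_iff]
    intro f hf
    by_contra hf0
    exact hI f hf0 hf
  obtain ⟨J, hJ, hJ0⟩ := Ideal.exists_minimalPrimes_comap_eq (I := I) (phi (ι := ι) k C) ⊥ (by
    rw [hI0, Ideal.minimalPrimes_eq_subsingleton_self]
    rfl)
  have hJp : J.IsPrime := hJ.1.1
  have hIJ : I ≤ J := hJ.1.2
  -- the domain
  let D := MvPolynomial ι C ⧸ J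
  obtain ⟨d, hd1, hd2, hd3⟩ := Groth.Agent.CalgC.DimFT.exists_dim k D
  have hcard : Fintype.card ι ≤ d := by
    have h1 : AlgebraicIndependent k (fun i : ι => (Ideal.Quotient.mk J (X i) : D)) := by
      rw [AlgebraicIndependent, injective_iff_map_eq_zero]
      intro f hf
      have h2 : (aeval (fun i : ι => (Ideal.Quotient.mk J (X i) : D)) : MvPolynomial ι k →ₐ[k] D) f =
          Ideal.Quotient.mk J (phi k C f) := by
        have h3 : (aeval (fun i : ι => (Ideal.Quotient.mk J (X i) : D)) : MvPolynomial ι k →ₐ[k] D).toRingHom =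
            (Ideal.Quotient.mk J).comp (phi k C) := by
          refine MvPolynomial.ringHom_ext ?_ ?_
          · intro r
            simp [phi]
            rfl
          · intro i
            simp [phi]
        exact RingHom.congr_fun h3 f
      rw [h2, Ideal.Quotient.eq_zero_iff_mem] at hf
      have h4 : f ∈ J.comap (phi k C) := hf
      rw [hJ0] at h4
      exact h4
    have h2 := h1.lift_cardinalMk_le_trdeg
    rw [hd2] at h2
    simpa using h2
  -- a closed point
  obtain ⟨MD, hMD⟩ := Ideal.exists_maximal D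
  let M : Ideal (MvPolynomial ι C) := MD.comap (Ideal.Quotient.mk J)
  have hM : M.IsMaximal := Ideal.comap_isMaximal_of_surjective _ Ideal.Quotient.mk_surjective
  have hJM : J ≤ M := by
    intro x hx
    rw [Ideal.mem_comap, Ideal.Quotient.eq_zero_iff_mem.2 hx]
    exact zero_mem _
  -- the residue field is `k`
  obtain ⟨θ, hθ⟩ : ∃ θ : MvPolynomial ι C →ₐ[k] k, RingHom.ker θ = M := by
    let := Ideal.Quotient.field M
    have h1 : Module.Finite k (MvPolynomial ι C ⧸ M) := finite_of_finite_type_of_isJacobsonRing k _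
    have h2 : Function.Bijective (algebraMap k (MvPolynomial ι C ⧸ M)) :=
      IsAlgClosed.algebraMap_bijective_of_isIntegral
    refine ⟨((AlgEquiv.ofBijective (Algebra.ofId k (MvPolynomial ι C ⧸ M)) h2).symm : _ →ₐ[k] k).comp
      (Ideal.Quotient.mkₐ k M), ?_⟩
    ext x
    rw [RingHom.mem_ker]
    change (AlgEquiv.ofBijective (Algebra.ofId k (MvPolynomial ι C ⧸ M)) h2).symm
      (Ideal.Quotient.mk M x) = 0 ↔ _
    rw [EmbeddingLike.map_eq_zero_iff, Ideal.Quotient.eq_zero_iff_mem]
  let θC : C →ₐ[k] k := θ.comp (IsScalarTower.toAlgHom k C (MvPolynomial ι C))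
  have hθC : ∀ x, θC x = θ (MvPolynomial.C x) := fun x => rfl
  let n : Ideal C := RingHom.ker θC
  have hn : n.IsMaximal := RingHom.ker_isMaximal_of_surjective θC fun x => ⟨algebraMap k C x, θC.commutes x⟩
  have hnM : ∀ x : C, x ∈ n ↔ MvPolynomial.C x ∈ M := by
    intro x
    rw [← hθ, RingHom.mem_ker, RingHom.mem_ker, hθC]
  -- the fibre over `n`
  let nD : Ideal D := n.map (algebraMap C D)
  let ψ : MvPolynomial ι k →+* D ⧸ nD := ((Ideal.Quotient.mk nD).comp (Ideal.Quotient.mk J)).comp (phi k C)
  -- the residue map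
  let res : MvPolynomial ι C →+* MvPolynomial ι k := map (θC : C →+* k)
  have hres : ∀ g : MvPolynomial ι C, g - phi k C (res g) ∈ n.map (MvPolynomial.C : C →+* MvPolynomial ι C) := by
    intro g
    rw [MvPolynomial.mem_map_C_iff]
    intro v
    rw [coeff_sub, phi, coeff_map, coeff_map]
    change θC _ = 0
    rw [map_sub, sub_eq_zero]
    exact (θC.commutes _).symm
  have hψ : ∀ g, ψ (res g) = Ideal.Quotient.mk nD (Ideal.Quotient.mk J g) := by
    intro g
    have h1 : Ideal.Quotient.mk J (g - phi k C (res g)) ∈ nD := by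
      have h2 := Ideal.mem_map_of_mem (Ideal.Quotient.mk J) (hres g)
      rw [Ideal.map_map] at h2
      exact h2
    rw [← Ideal.Quotient.eq_zero_iff_mem, map_sub, map_sub, sub_eq_zero] at h1
    exact h1.symm
  have hψs : Function.Surjective ψ := by
    intro y
    obtain ⟨y, rfl⟩ := Ideal.Quotient.mk_surjective y
    obtain ⟨g, rfl⟩ := Ideal.Quotient.mk_surjective y
    exact ⟨res g, hψ g⟩
  have hW : ∀ c : ι → k, (∀ f, ψ f = 0 → eval c f = 0) →
      ∃ q : associatedPrimes C (E ⧸ sub A E n), c ∈ W k m q := by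
    intro c hc
    have hQ : (n.comap (ev C fun i => algebraMap k A (c i))).IsPrime := Ideal.IsPrime.comap _
    have h1 : J ≤ n.comap (ev C fun i => algebraMap k A (c i)) := by
      intro g hg
      have h2 : eval c (res g) = 0 := hc _ (by rw [hψ, Ideal.Quotient.eq_zero_iff_mem.2 hg, map_zero])
      have h3 : ev C (fun i => algebraMap k A (c i)) (g - phi k C (res g)) ∈ n := by
        have h4 := Ideal.mem_map_of_mem (ev C fun i => algebraMap k A (c i)) (hres g)
        rw [Ideal.map_map] at h4
        have h5 : (ev C fun i => algebraMap k A (c i)).comp (MvPolynomial.C : C →+* MvPolynomial ι C) =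
            RingHom.id C := RingHom.ext fun x => ev_C _ x
        rwa [h5, Ideal.map_id] at h4
      rw [map_sub, ev_phi, h2, map_zero, sub_zero] at h3
      exact h3
    have h2 := hIZ _ hQ (hIJ.trans h1)
    rw [Special.FI_iff, ev_gen (A := A) m c] at h2
    obtain ⟨q, hq, hFq, _⟩ := exists_assPrime _ n h2
    exact ⟨⟨q, hq⟩, hFq⟩
  have hfin : Finite (associatedPrimes C (E ⧸ sub A E n)) :=
    (associatedPrimes.finite C (E ⧸ sub A E n)).to_subtype
  have hWr : ∀ q : associatedPrimes C (E ⧸ sub A E n), finrank k (W k m (q : Ideal C)) ≤ Fintype.card ι - (a + 1) := by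
    intro q
    have := hrk n hn q q.2
    omega
  have hdimF : ringKrullDim (D ⧸ nD) ≤ ((Fintype.card ι - (a + 1) : ℕ) : WithBot ℕ∞) :=
    LinIdeal.ringKrullDim_le (k := k) (ι := ι) (D := D ⧸ nD) ψ hψs
      (fun q : associatedPrimes C (E ⧸ sub A E n) => W k m (q : Ideal C)) (Fintype.card ι - (a + 1)) hWr hW
  -- the number of parameters is large
  have hbig : a + 1 ≤ Fintype.card ι := by
    obtain ⟨q, -⟩ := hW (fun i => θ (X i)) (by
      intro f hf
      have h1 : phi k C f ∈ M := by
        have h2 : Ideal.Quotient.mk J (phi k C f) ∈ nD := Ideal.Quotient.eq_zero_iff_mem.1 hf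
        have h3 : nD ≤ MD := by
          rw [Ideal.map_le_iff_le_comap]
          intro x hx
          exact (hnM x).1 hx
        exact h3 h2
      have h4 : (θ : MvPolynomial ι C →+* k).comp (phi k C) = eval fun i => θ (X i) := by
        refine MvPolynomial.ringHom_ext ?_ ?_
        · intro r
          simp only [phi, RingHom.comp_apply, map_C, eval_C]
          exact θ.commutes r
        · intro i
          simp [phi]
      rw [← h4]
      rw [← hθ] at h1
      exact h1)
    have := hrk n hn q q.2
    omega
  have hlo : MD.LiesOver n := ⟨by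
    ext x
    rw [hnM]
    rfl⟩
  have hDn : IsNoetherianRing D := inferInstance
  have hht := Ideal.height_le_height_add_of_liesOver n MD
  have h1 : MD.height = d := hd3 MD hMD
  have h2 : (n.height : WithBot ℕ∞) ≤ (a : ℕ) := (Ideal.height_le_ringKrullDim_of_ne_top hn.ne_top).trans hdim
  have h2' : n.height ≤ (a : ℕ) := by exact_mod_cast h2
  have hnMD : n.map (algebraMap C D) ≤ MD := by
    rw [Ideal.map_le_iff_le_comap]
    intro x hx
    exact (hnM x).1 hx
  have h3 : MD.map (Ideal.Quotient.mk (n.map (algebraMap C D))) ≠ ⊤ := by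
    intro htop
    have h5 := Ideal.comap_map_mk hnMD
    rw [htop, Ideal.comap_top] at h5
    exact hMD.ne_top h5.symm
  have h4 : ((MD.map (Ideal.Quotient.mk (n.map (algebraMap C D)))).height : WithBot ℕ∞) ≤
      ((Fintype.card ι - (a + 1) : ℕ) : WithBot ℕ∞) :=
    (Ideal.height_le_ringKrullDim_of_ne_top h3).trans hdimF
  have h4' : (MD.map (Ideal.Quotient.mk (n.map (algebraMap C D)))).height ≤
      ((Fintype.card ι - (a + 1) : ℕ) : ℕ∞) := WithBot.coe_le_coe.1 h4
  have h5 : (d : ℕ∞) ≤ (a : ℕ) + ((Fintype.card ι - (a + 1) : ℕ) : ℕ∞) := by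
    rw [← h1]
    exact hht.trans (add_le_add h2' h4')
  have h6 : d ≤ a + (Fintype.card ι - (a + 1)) := by exact_mod_cast h5
  omega

end

end K71.GenCount
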