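import Groth.Agent.FlatMor.K71.ChartGeo
import Groth.Agent.CohqA.PullbackQCoh
import Mathlib.LinearAlgebra.TensorProduct.Quotient

/-!
# Consequences of fibrewise injectivity on a chart
-/

set_option autoImplicit false
universe u
open CategoryTheory CategoryTheory.Limits AlgebraicGeometry TopologicalSpace TensorProduct

namespace K71.LocCons

open K71.FibInj K119.GenTB

section alg

variable {A C : Type u} [CommRing A] [CommRing C] [Algebra A C] {E : Type u} [AddCommGroup E] [Module C E]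

theorem notMem_of_RA (F : C) (q : Ideal C) (hFI : FI A E F q) (h : RA A E q) : F ∉ q := by
  intro hF
  obtain ⟨x, hx, h1⟩ := h
  obtain ⟨n, s, hs, hsn⟩ := h1 F hF
  have key : ∀ n : ℕ, ∀ s : C, s ∉ q → (s * F ^ n) • x ∈ sub A E q → ∃ s : C, s ∉ q ∧ s • x ∈ sub A E q := by
    intro n
    induction n with
    | zero => intro s hs h; exact ⟨s, hs, by simpa using h⟩
    | succ n ih =>
      intro s hs h
      obtain ⟨s', hs', h'⟩ := hFI (F ^ n • x) ⟨s, hs, by
        rw [smul_smul, smul_smul, mul_assoc, ← pow_succ']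
        exact h⟩
      exact ih s' hs' (by rw [mul_smul]; exact h')
  obtain ⟨s', hs', h'⟩ := key n s hs hsn
  exact hx s' hs' h'

variable [Module A E] [IsScalarTower A C E]

theorem flat_quot [IsNoetherianRing A] [Algebra.FiniteType A C] [Module.Finite C E] [Module.Flat A E]
    (F : C) (h : ∀ q : Ideal C, q.IsPrime → FI A E F q) :
    Module.Flat A (E ⧸ LinearMap.range (mul F : E →ₗ[C] E)) := by
  have hB : IsNoetherianRing C := Algebra.FiniteType.isNoetherianRing A C
  have hfp : Algebra.FinitePresentation A C := Algebra.FinitePresentation.of_finiteType.1 inferInstance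
  have hfpE : Module.FinitePresentation C E := Module.finitePresentation_of_finite C E
  refine Module.flat_of_isLocalized_maximal (S := C) _
    (fun P _ => LocalizedModule P.primeCompl (E ⧸ LinearMap.range (mul F : E →ₗ[C] E)))
    (fun P _ => LocalizedModule.mkLinearMap P.primeCompl _) ?_
  intro P hP
  exact (key F P (h P hP.isPrime)).2

theorem flat_of_isBaseChange {D E' : Type u} [CommRing D] [Algebra C D]
    (hD : Function.Surjective (algebraMap C D)) (F : C) (hker : RingHom.ker (algebraMap C D) = Ideal.span {F})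
    [AddCommGroup E'] [Module C E'] [Module D E'] [IsScalarTower C D E'] [Module A E'] [IsScalarTower A C E']
    (e : E →ₗ[C] E') (he : IsBaseChange D e)
    (h : Module.Flat A (E ⧸ LinearMap.range (mul F : E →ₗ[C] E))) : Module.Flat A E' := by
  let e1 : (C ⧸ LinearMap.ker (Algebra.linearMap C D)) ≃ₗ[C] D :=
    (Algebra.linearMap C D).quotKerEquivOfSurjective hD
  have hI : LinearMap.ker (Algebra.linearMap C D) = Ideal.span {F} := by
    rw [← hker]
    rfl
  let e2 : (C ⧸ Ideal.span {F}) ≃ₗ[C] D := (Submodule.quotEquivOfEq _ _ hI.symm).trans e1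
  let e3 : D ⊗[C] E ≃ₗ[C] (C ⧸ Ideal.span {F}) ⊗[C] E := LinearEquiv.rTensor E e2.symm
  let e4 : (C ⧸ Ideal.span {F}) ⊗[C] E ≃ₗ[C] (E ⧸ (Ideal.span {F} • (⊤ : Submodule C E))) :=
    TensorProduct.quotTensorEquivQuotSMul E (Ideal.span {F})
  have hr : Ideal.span {F} • (⊤ : Submodule C E) = LinearMap.range (mul F : E →ₗ[C] E) := by
    rw [Submodule.ideal_span_singleton_smul]
    ext x
    rw [Submodule.mem_smul_pointwise_iff_exists]
    constructor
    · rintro ⟨y, _, rfl⟩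
      exact ⟨y, rfl⟩
    · rintro ⟨y, rfl⟩
      exact ⟨y, trivial, rfl⟩
  let e5 := Submodule.quotEquivOfEq _ _ hr
  let e6 : D ⊗[C] E ≃ₗ[C] E' := he.equiv.restrictScalars C
  let e7 : E' ≃ₗ[C] (E ⧸ LinearMap.range (mul F : E →ₗ[C] E)) := e6.symm.trans (e3.trans (e4.trans e5))
  exact Module.Flat.of_linearEquiv (e7.restrictScalars A)

end alg

section geo

open Groth.Agent.CohqA.PullbackQCoh Groth.Agent.CohqA.BaseChangeMod

variable {S Y P : Scheme.{u}} (g : Y ⟶ S) (ℰ : Y.Modules) (hℰ : Coh.IsCoh ℰ)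
  (hflat : FlatMod.IsFlatOver g ℰ) {T : S.Opens} (hT : IsAffineOpen T) {V : Y.Opens} (hV : IsAffineOpen V)
  (e : V ≤ g ⁻¹ᵁ T) (F : Γ(Y, V))
  (hFI : ∀ Q : Ideal Γ(Y, V), Q.IsPrime → letI : Algebra Γ(S, T) Γ(Y, V) := (g.appLE T V e).hom.toAlgebra
    FI Γ(S, T) Γ(ℰ, V) F Q)

include hT hℰ hFI in
theorem notMem_primeIdealOf (z : Y) (hz : z ∈ V) (h : z ∈ MoreMor.relAss g ℰ) :
    F ∉ (hV.primeIdealOf ⟨z, hz⟩).asIdeal := by
  let _ : Algebra Γ(S, T) Γ(Y, V) := (g.appLE T V e).hom.toAlgebra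
  rw [K119.GenSch.mem_relAss_iff_RA g ℰ hV hT e z hz hℰ.1] at h
  exact notMem_of_RA F _ (hFI _ (hV.primeIdealOf ⟨z, hz⟩).isPrime) h

include hT hV hFI hℰ hflat in
theorem isFlatOverAt [IsLocallyNoetherian S] [LocallyOfFiniteType g] (j : P ⟶ Y) [IsClosedImmersion j] (hker : j.ker.ideal ⟨V, hV⟩ = Ideal.span {F}) (z : P)
    (hz : j z ∈ V) : FlatMod.IsFlatOverAt (j ≫ g) ((Scheme.Modules.pullback j).obj ℰ) z := by
  let A := Γ(S, T)
  let C := Γ(Y, V)
  let D := Γ(P, j ⁻¹ᵁ V)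
  let E := Γ(ℰ, V)
  let E' := Γ((Scheme.Modules.pullback j).obj ℰ, j ⁻¹ᵁ V)
  have hqc : ℰ.IsQuasicoherent := hℰ.1
  have hV' : IsAffineOpen (j ⁻¹ᵁ V) := hV.preimage j
  let ac : Algebra A C := (g.appLE T V e).hom.toAlgebra
  let cd : Algebra C D := (j.appLE V (j ⁻¹ᵁ V) le_rfl).hom.toAlgebra
  let ae : Module A E := Module.compHom E (g.appLE T V e).hom
  let ce' : Module C E' := Module.compHom E' (j.appLE V (j ⁻¹ᵁ V) le_rfl).hom
  let ae' : Module A E' := Module.compHom E' ((j ≫ g).appLE T (j ⁻¹ᵁ V) (by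
    intro x hx; exact e hx)).hom
  have t1 : IsScalarTower A C E := ⟨fun a b m => mul_smul (g.appLE T V e a) b m⟩
  have t2 : IsScalarTower C D E' := ⟨fun a b m => mul_smul (j.appLE V (j ⁻¹ᵁ V) le_rfl a) b m⟩
  have t3 : IsScalarTower A C E' := ⟨fun a b m => by
    have h2 := congr($(Scheme.Hom.appLE_comp_appLE j g T V (j ⁻¹ᵁ V) e le_rfl) a)
    change (j.appLE V (j ⁻¹ᵁ V) le_rfl (g.appLE T V e a * b)) • m =
      ((j ≫ g).appLE T (j ⁻¹ᵁ V) _ a) • (j.appLE V (j ⁻¹ᵁ V) le_rfl b) • m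
    rw [map_mul, mul_smul, ← h2]
    rfl⟩
  have f0 : IsNoetherianRing A := IsLocallyNoetherian.component_noetherian ⟨T, hT⟩
  have f1 : Algebra.FiniteType A C := LocallyOfFiniteType.finiteType_appLE g hT hV e
  have f3 : Module.Finite C E := Groth.Agent.Sga67.CohBasic.finite_sections hℰ ⟨V, hV⟩
  have f4 : Module.Flat A E := Groth.Agent.Ega43.FibSch2.flat_sections g ℰ hℰ.1 hflat hT hV e rfl
  have h1 : Module.Flat A (E ⧸ LinearMap.range (mul F : E →ₗ[C] E)) := flat_quot F hFI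
  have hD : Function.Surjective (algebraMap C D) := by
    have h2 := j.app_surjective V hV
    rw [Scheme.Hom.app_eq_appLE] at h2
    exact h2
  have hk : RingHom.ker (algebraMap C D) = Ideal.span {F} := by
    rw [← hker, Scheme.Hom.ker_apply, Scheme.Hom.app_eq_appLE]
    rfl
  have hbc := isBC_pbSec j ℰ hV hV' (le_refl (j ⁻¹ᵁ V))
  let el : E →ₗ[C] E' :=
    { (pbSec j ℰ V (j ⁻¹ᵁ V) le_rfl).hom with map_smul' := hbc.map_smul }
  have he : IsBaseChange D el := (isBC_iff_isBaseChange el).1 hbc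
  have h5 : Module.Flat A E' := flat_of_isBaseChange hD F hk el he h1
  exact Groth.Agent.Ega3B.FlatSec.isFlatOverAt_of_flat_sections (j ≫ g) _
    (Groth.Agent.CohqA.PullbackQCoh.isQuasicoherent_pullback j ℰ) hT hV' _ h5 z hz

end geo

end K71.LocCons
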