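import Groth.Agent.FlatMor.K71.GenCount
import Mathlib.Algebra.Polynomial.Splits
import Mathlib.LinearAlgebra.FiniteDimensional.Lemmas

/-!
# The rank of a family containing the powers of an element transcendental modulo a prime
-/

set_option autoImplicit false
universe u

namespace K71.Rank

open Module Polynomial K71.GenCount

variable {k C : Type u} [Field k] [IsAlgClosed k] [CommRing C] [Algebra k C] (q : Ideal C)
  [hq : q.IsPrime] (y : C) (hy : ∀ c : k, y - algebraMap k C c ∉ q)

include hy in
theorem eq_zero_of_aeval_mem (P : k[X]) (h : aeval y P ∈ q) : P = 0 := by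
  by_contra hP
  have h1 := (IsAlgClosed.splits P).eq_prod_roots
  rw [h1, map_mul, aeval_C] at h
  rcases hq.mem_or_mem h with h2 | h2
  · refine hq.ne_top (Ideal.eq_top_of_isUnit_mem _ h2 ?_)
    exact (IsUnit.mk0 _ (Polynomial.leadingCoeff_ne_zero.2 hP)).map (algebraMap k C)
  · rw [map_multiset_prod] at h2
    obtain ⟨z, hz, hzq⟩ := (hq.multiset_prod_mem_iff_exists_mem _).1 h2
    rw [Multiset.map_map, Multiset.mem_map] at hz
    obtain ⟨c, _, rfl⟩ := hz
    apply hy c
    simpa using hzq

include hy in
theorem finrank_le (a : ℕ) {ι : Type} [Fintype ι] (m : ι → C) (g : Fin (a + 1) → ι)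
    (hg : Function.Injective g) (hm : ∀ b, m (g b) = y ^ (b : ℕ)) :
    finrank k (W k m q) + (a + 1) ≤ Fintype.card ι := by
  let L : (Fin (a + 1) → k) →ₗ[k] (ι → k) := Function.ExtendByZero.linearMap k g
  have hL : Function.Injective L := Function.extend_injective hg _
  have h1 : finrank k (LinearMap.range L) = a + 1 := by
    rw [LinearMap.finrank_range_of_inj hL, finrank_fin_fun]
  have h2 : Disjoint (W k m q) (LinearMap.range L) := by
    rw [Submodule.disjoint_def]
    rintro _ hc ⟨l, rfl⟩
    rw [mem_W] at hc
    have h4 : ∑ α, L l α • m α = ∑ b, l b • y ^ (b : ℕ) := by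
      symm
      refine Fintype.sum_of_injective g hg _ _ (fun i hi => ?_) (fun b => ?_)
      · change Function.extend g l 0 i • m i = 0
        rw [Function.extend_apply' _ _ _ (fun ⟨b, hb⟩ => hi ⟨b, hb⟩), Pi.zero_apply, zero_smul]
      · change _ = Function.extend g l 0 (g b) • m (g b)
        rw [hg.extend_apply, hm]
    rw [h4] at hc
    let P : k[X] := ∑ b : Fin (a + 1), Polynomial.C (l b) * X ^ (b : ℕ)
    have h5 : P = 0 := by
      apply eq_zero_of_aeval_mem q y hy
      rw [map_sum]
      refine (congrArg (· ∈ q) (Finset.sum_congr rfl fun b _ => ?_)).mp hc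
      rw [map_mul, aeval_C, map_pow, aeval_X, Algebra.smul_def]
    have h6 : l = 0 := by
      funext b
      have h7 := congrArg (fun Q => Polynomial.coeff Q (b : ℕ)) h5
      simp only [P, Polynomial.finset_sum_coeff, Polynomial.coeff_C_mul, Polynomial.coeff_X_pow,
        Polynomial.coeff_zero] at h7
      rw [Finset.sum_eq_single b] at h7
      · simpa using h7
      · intro b' _ hb'
        rw [if_neg, mul_zero]
        intro h8
        exact hb' (Fin.ext h8.symm)
      · intro h8
        exact absurd (Finset.mem_univ b) h8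
    rw [h6, map_zero]
  have h3 := Submodule.finrank_add_finrank_le_of_disjoint h2
  rw [h1, finrank_fintype_fun_eq_card] at h3
  exact h3

end K71.Rank
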