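import Groth.Agent.FlatMor.K71.FibInj
import Mathlib.RingTheory.TensorProduct.MvPolynomial

/-!
# Specialization of the generic linear combination

`E' = C[t] ⊗_C E` over `A[t] → C[t]`; `FI` for `F' ∈ C[t]` at the prime `(q, c)` is `FI` for `F'(c)` at `q`.
-/

set_option autoImplicit false
universe u

open TensorProduct

namespace K71.Special

open K71.FibInj MvPolynomial

attribute [local instance] MvPolynomial.algebraMvPolynomial

variable {A C : Type u} [CommRing A] [CommRing C] [Algebra A C] {E : Type u} [AddCommGroup E]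
  [Module C E] {ι : Type}

theorem algebraMap_apply (a : MvPolynomial ι A) :
    algebraMap (MvPolynomial ι A) (MvPolynomial ι C) a = map (algebraMap A C) a := rfl

/-- Flatness of the generic module. -/
theorem flat [Module A E] [IsScalarTower A C E] [Module.Flat A E] :
    Module.Flat (MvPolynomial ι A) (MvPolynomial ι C ⊗[C] E) :=
  Module.Flat.of_linearEquiv
    (Algebra.IsPushout.cancelBaseChange A (MvPolynomial ι A) C (MvPolynomial ι C) E)

variable (a : ι → A)

/-- Evaluation at an `A`-rational point. -/
noncomputable def ev (C : Type u) [CommRing C] [Algebra A C] (a : ι → A) : MvPolynomial ι C →+* C :=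
  eval (fun i => algebraMap A C (a i))

/-- The induced map on the module. -/
noncomputable def evE (E : Type u) [AddCommGroup E] [Module C E] (a : ι → A) :
    MvPolynomial ι C ⊗[C] E →ₗ[C] E :=
  TensorProduct.lift ((LinearMap.lsmul C E).comp
    (aeval (fun i => algebraMap A C (a i)) : MvPolynomial ι C →ₐ[C] C).toLinearMap)

theorem evE_tmul (p : MvPolynomial ι C) (e : E) : evE E a (p ⊗ₜ e) = ev C a p • e := by
  rw [evE, TensorProduct.lift.tmul]
  rfl

theorem evE_smul (p : MvPolynomial ι C) (x : MvPolynomial ι C ⊗[C] E) :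
    evE E a (p • x) = ev C a p • evE E a x := by
  induction x with
  | zero => simp
  | tmul r e => rw [smul_tmul', evE_tmul, evE_tmul, smul_eq_mul, map_mul, mul_smul]
  | add x y hx hy => rw [smul_add, map_add, hx, hy, map_add, smul_add]

theorem ev_C (r : C) : ev C a (MvPolynomial.C r) = r := eval_C _

theorem ev_algebraMap (p : MvPolynomial ι A) :
    ev C a (algebraMap (MvPolynomial ι A) (MvPolynomial ι C) p) = algebraMap A C (eval a p) := by
  have h : (ev C a).comp (map (algebraMap A C)) = (algebraMap A C).comp (eval a) := by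
    refine MvPolynomial.ringHom_ext ?_ ?_
    · intro r
      simp [ev]
    · intro i
      simp [ev]
  exact RingHom.congr_fun h p

variable (q : Ideal C)

theorem comap_comap : (q.comap (ev C a)).comap (algebraMap (MvPolynomial ι A) (MvPolynomial ι C)) =
    (q.comap (algebraMap A C)).comap (eval a) := by
  ext p
  rw [Ideal.mem_comap, Ideal.mem_comap, Ideal.mem_comap, Ideal.mem_comap, ev_algebraMap]

/-- The extended ideal. -/
noncomputable abbrev bigP : Ideal (MvPolynomial ι C) :=
  ((q.comap (ev C a)).comap (algebraMap (MvPolynomial ι A) (MvPolynomial ι C))).map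
    (algebraMap (MvPolynomial ι A) (MvPolynomial ι C))

theorem X_sub_mem (i : ι) : X i - MvPolynomial.C (algebraMap A C (a i)) ∈ bigP a q := by
  have h1 : X i - MvPolynomial.C (algebraMap A C (a i)) =
      algebraMap (MvPolynomial ι A) (MvPolynomial ι C) (X i - MvPolynomial.C (a i)) := by
    rw [algebraMap_apply, map_sub, map_X, map_C]
  rw [h1]
  refine Ideal.mem_map_of_mem _ ?_
  rw [comap_comap, Ideal.mem_comap, map_sub, eval_X, eval_C, sub_self]
  exact zero_mem _

theorem sub_ev_mem (p : MvPolynomial ι C) : p - MvPolynomial.C (ev C a p) ∈ bigP a q := by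
  induction p using MvPolynomial.induction_on with
  | C r => rw [ev_C, sub_self]; exact zero_mem _
  | add p r hp hr =>
    rw [map_add, map_add]
    have : p + r - (MvPolynomial.C (ev C a p) + MvPolynomial.C (ev C a r)) =
      (p - MvPolynomial.C (ev C a p)) + (r - MvPolynomial.C (ev C a r)) := by ring
    rw [this]
    exact add_mem hp hr
  | mul_X p i hp =>
    rw [map_mul, map_mul]
    have h1 : ev C a (X i) = algebraMap A C (a i) := eval_X _
    rw [h1]
    have : p * X i - MvPolynomial.C (ev C a p) * MvPolynomial.C (algebraMap A C (a i)) =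
      X i * (p - MvPolynomial.C (ev C a p)) +
        MvPolynomial.C (ev C a p) * (X i - MvPolynomial.C (algebraMap A C (a i))) := by ring
    rw [this]
    exact add_mem (Ideal.mul_mem_left _ _ hp) (Ideal.mul_mem_left _ _ (X_sub_mem a q i))

theorem one_tmul_mem (e : E) (he : e ∈ sub A E q) :
    (1 : MvPolynomial ι C) ⊗ₜ[C] e ∈
      sub (MvPolynomial ι A) (MvPolynomial ι C ⊗[C] E) (q.comap (ev C a)) := by
  refine Submodule.smul_induction_on he ?_ ?_
  · intro r hr e _
    rw [← TensorProduct.smul_tmul, Algebra.smul_def, mul_one]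
    have h1 : (algebraMap C (MvPolynomial ι C) r) ⊗ₜ[C] e =
      (algebraMap C (MvPolynomial ι C) r) • ((1 : MvPolynomial ι C) ⊗ₜ[C] e) := by
      rw [smul_tmul', smul_eq_mul, mul_one]
    rw [h1]
    refine Submodule.smul_mem_smul ?_ Submodule.mem_top
    have h2 : ((q.comap (algebraMap A C)).map (algebraMap A C)).map (algebraMap C (MvPolynomial ι C)) ≤
        bigP a q := by
      rw [Ideal.map_le_iff_le_comap, Ideal.map_le_iff_le_comap]
      intro x hx
      rw [Ideal.mem_comap, Ideal.mem_comap]
      have h3 : algebraMap C (MvPolynomial ι C) (algebraMap A C x) =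
          algebraMap (MvPolynomial ι A) (MvPolynomial ι C) (MvPolynomial.C x) := by
        rw [algebraMap_apply, map_C]
        rfl
      rw [h3]
      refine Ideal.mem_map_of_mem _ ?_
      rw [comap_comap, Ideal.mem_comap, eval_C]
      exact hx
    exact h2 (Ideal.mem_map_of_mem _ hr)
  · intro x y hx hy
    rw [tmul_add]
    exact add_mem hx hy

theorem sub_evE_mem (x : MvPolynomial ι C ⊗[C] E) :
    x - (1 : MvPolynomial ι C) ⊗ₜ[C] (evE E a x) ∈
      sub (MvPolynomial ι A) (MvPolynomial ι C ⊗[C] E) (q.comap (ev C a)) := by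
  induction x with
  | zero => simp
  | tmul p e =>
    have h1 : p ⊗ₜ[C] e - (1 : MvPolynomial ι C) ⊗ₜ[C] (evE E a (p ⊗ₜ e)) =
        (p - MvPolynomial.C (ev C a p)) • ((1 : MvPolynomial ι C) ⊗ₜ[C] e) := by
      rw [evE_tmul, ← TensorProduct.smul_tmul, smul_tmul', smul_eq_mul, mul_one, sub_tmul,
        Algebra.smul_def, mul_one]
      rfl
    rw [h1]
    exact Submodule.smul_mem_smul (sub_ev_mem a q p) Submodule.mem_top
  | add x y hx hy =>
    have h1 : x + y - (1 : MvPolynomial ι C) ⊗ₜ[C] (evE E a (x + y)) =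
        (x - (1 : MvPolynomial ι C) ⊗ₜ[C] (evE E a x)) +
          (y - (1 : MvPolynomial ι C) ⊗ₜ[C] (evE E a y)) := by
      rw [map_add, tmul_add]
      abel
    rw [h1]
    exact add_mem hx hy

theorem mem_sub_iff (x : MvPolynomial ι C ⊗[C] E) :
    x ∈ sub (MvPolynomial ι A) (MvPolynomial ι C ⊗[C] E) (q.comap (ev C a)) ↔
      evE E a x ∈ sub A E q := by
  constructor
  · intro hx
    refine Submodule.smul_induction_on hx ?_ ?_
    · intro r hr y _
      rw [evE_smul]
      refine Submodule.smul_mem_smul ?_ Submodule.mem_top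
      have h1 : bigP a q ≤ ((q.comap (algebraMap A C)).map (algebraMap A C)).comap (ev C a) := by
        rw [Ideal.map_le_iff_le_comap]
        intro p hp
        rw [comap_comap, Ideal.mem_comap] at hp
        rw [Ideal.mem_comap, Ideal.mem_comap, ev_algebraMap]
        exact Ideal.mem_map_of_mem _ hp
      exact h1 hr
    · intro x y hx hy
      rw [map_add]
      exact add_mem hx hy
  · intro hx
    have h1 := add_mem (sub_evE_mem a q x) (one_tmul_mem a q _ hx)
    rwa [sub_add_cancel] at h1

/-- Specialization of the fibrewise injectivity. -/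
theorem FI_iff (F : MvPolynomial ι C) :
    FI (MvPolynomial ι A) (MvPolynomial ι C ⊗[C] E) F (q.comap (ev C a)) ↔ FI A E (ev C a F) q := by
  constructor
  · rintro h x ⟨s, hs, hsx⟩
    obtain ⟨s', hs', h'⟩ := h ((1 : MvPolynomial ι C) ⊗ₜ[C] x) ⟨MvPolynomial.C s, by
        rw [Ideal.mem_comap, ev_C]; exact hs, by
        rw [mem_sub_iff, evE_smul, evE_smul, ev_C, evE_tmul, map_one, one_smul]; exact hsx⟩
    refine ⟨ev C a s', hs', ?_⟩
    rw [mem_sub_iff, evE_smul, evE_tmul, map_one, one_smul] at h'
    exact h'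
  · rintro h x ⟨s, hs, hsx⟩
    rw [mem_sub_iff, evE_smul, evE_smul] at hsx
    obtain ⟨s', hs', h'⟩ := h (evE E a x) ⟨ev C a s, hs, hsx⟩
    refine ⟨MvPolynomial.C s', by rw [Ideal.mem_comap, ev_C]; exact hs', ?_⟩
    rw [mem_sub_iff, evE_smul, ev_C]
    exact h'

end K71.Special
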